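import Mathlib
import Groth.Prelude.Def_GrLC
import Groth.Agent.Lib.Helper9.GrLC.Basic
import Groth.Agent.Lib.Helper9.GrLC.Pull

set_option autoImplicit false
set_option linter.unusedSectionVars false
set_option linter.unusedVariables false
set_option linter.unusedSimpArgs false
set_option linter.style.haveILetI false
set_option maxHeartbeats 400000

/-!
# The product of two bundled graded modules
-/

universe u

namespace Groth.Agent.Lib.Helper6.CMReg

open DirectSum Groth.Agent.Helper9.GrLCLib

variable {ι : Type} [AddCommGroup ι] [DecidableEq ι]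
variable {R : Type u} [CommRing R] {𝒜 : ι → AddSubgroup R} [GradedRing 𝒜]

section Prod

variable (X Y : GrLC.GMod.{u} 𝒜)

/-- the pieces of the product -/
def prodFam : ι → AddSubgroup (X.carrier × Y.carrier) := fun g => (X.gr g).prod (Y.gr g)

lemma mem_prodFam {g : ι} {z : X.carrier × Y.carrier} :
    z ∈ prodFam X Y g ↔ z.1 ∈ X.gr g ∧ z.2 ∈ Y.gr g := Iff.rfl

/-- components of the image of a formal sum -/
lemma proj_coe_prod (z : ⨁ g, prodFam X Y g) (g₀ : ι) :
    proj X.gr g₀ (DirectSum.coeAddMonoidHom (prodFam X Y) z).1 = ((z g₀ : X.carrier × Y.carrier)).1 ∧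
      proj Y.gr g₀ (DirectSum.coeAddMonoidHom (prodFam X Y) z).2 =
        ((z g₀ : X.carrier × Y.carrier)).2 := by
  induction z using DirectSum.induction_on with
  | zero => simp
  | of g n =>
    rw [DirectSum.coeAddMonoidHom_of]
    have hn : (n : X.carrier × Y.carrier).1 ∈ X.gr g ∧ (n : X.carrier × Y.carrier).2 ∈ Y.gr g := n.2
    by_cases hg : g = g₀
    · subst hg
      rw [proj_of_mem_same X.gr hn.1, proj_of_mem_same Y.gr hn.2, DirectSum.of_eq_same]
      exact ⟨rfl, rfl⟩
    · rw [proj_of_mem_ne X.gr hn.1 hg, proj_of_mem_ne Y.gr hn.2 hg,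
        DirectSum.of_eq_of_ne _ _ _ (Ne.symm hg)]
      simp
  | add x y hx hy =>
    rw [map_add, Prod.fst_add, Prod.snd_add, map_add, map_add, hx.1, hx.2, hy.1, hy.2,
      DirectSum.add_apply, AddSubgroup.coe_add]
    exact ⟨rfl, rfl⟩

lemma coe_prod_injective :
    Function.Injective (DirectSum.coeAddMonoidHom (prodFam X Y)) := by
  rw [injective_iff_map_eq_zero]
  intro z hz
  ext g₀
  · have := (proj_coe_prod X Y z g₀).1
    rw [hz] at this
    rw [← this]
    simp
  · have := (proj_coe_prod X Y z g₀).2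
    rw [hz] at this
    rw [← this]
    simp

open scoped Classical in
lemma coe_prod_surjective :
    Function.Surjective (DirectSum.coeAddMonoidHom (prodFam X Y)) := by
  rintro ⟨x, y⟩
  have hx : ∀ k, ((decompose X.gr x k : X.carrier), (0 : Y.carrier)) ∈ prodFam X Y k :=
    fun k => ⟨(decompose X.gr x k).2, (Y.gr k).zero_mem⟩
  have hy : ∀ k, ((0 : X.carrier), (decompose Y.gr y k : Y.carrier)) ∈ prodFam X Y k :=
    fun k => ⟨(X.gr k).zero_mem, (decompose Y.gr y k).2⟩
  refine ⟨∑ k ∈ (decompose X.gr x).support,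
      DirectSum.of (fun g => prodFam X Y g) k ⟨_, hx k⟩ +
    ∑ k ∈ (decompose Y.gr y).support,
      DirectSum.of (fun g => prodFam X Y g) k ⟨_, hy k⟩, ?_⟩
  rw [map_add, map_sum, map_sum]
  simp only [DirectSum.coeAddMonoidHom_of]
  have h1 : (∑ k ∈ (decompose X.gr x).support, ((decompose X.gr x k : X.carrier), (0 : Y.carrier))) =
      (x, 0) := by
    ext
    · rw [Prod.fst_sum]
      exact DirectSum.sum_support_decompose X.gr x
    · rw [Prod.snd_sum]
      simp
  have h2 : (∑ k ∈ (decompose Y.gr y).support, ((0 : X.carrier), (decompose Y.gr y k : Y.carrier))) =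
      (0, y) := by
    ext
    · rw [Prod.fst_sum]
      simp
    · rw [Prod.snd_sum]
      exact DirectSum.sum_support_decompose Y.gr y
  rw [h1, h2]
  simp

lemma prod_isInternal : DirectSum.IsInternal (prodFam X Y) :=
  ⟨coe_prod_injective X Y, coe_prod_surjective X Y⟩

/-- the decomposition of the product -/
@[instance_reducible]
noncomputable def prodDecomposition : DirectSum.Decomposition (prodFam X Y) :=
  (prod_isInternal X Y).chooseDecomposition

lemma prodGradedSMul : SetLike.GradedSMul 𝒜 (prodFam X Y) where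
  smul_mem := by
    intro a g r z hr hz
    rw [vadd_eq_add]
    exact ⟨smul_mem_add 𝒜 X.gr hr hz.1, smul_mem_add 𝒜 Y.gr hr hz.2⟩

/-- the product of two bundled graded modules -/
noncomputable def prodGMod : GrLC.GMod.{u} 𝒜 :=
  letI := prodDecomposition X Y
  letI := prodGradedSMul X Y
  GrLC.GMod.of 𝒜 (X.carrier × Y.carrier) (prodFam X Y)

lemma prodGMod_gr : (prodGMod X Y).gr = prodFam X Y := rfl

lemma mem_prodGMod_gr {g : ι} {z : X.carrier × Y.carrier} :
    (z : (prodGMod X Y).carrier) ∈ (prodGMod X Y).gr g ↔ z.1 ∈ X.gr g ∧ z.2 ∈ Y.gr g := Iff.rfl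

end Prod

end Groth.Agent.Lib.Helper6.CMReg
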