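import Mathlib
import Groth.Prelude.Def_GrLC
import Groth.Prelude.Def_Wider
import Groth.Agent.Lib.Helper9.GrLC.GrH2
import Groth.Agent.Lib.Helper6.CMReg.CRa

set_option autoImplicit false
set_option linter.unusedSectionVars false
set_option linter.unusedVariables false
set_option linter.unusedSimpArgs false
set_option linter.style.haveILetI false
set_option maxHeartbeats 400000

/-!
# Degreewise vanishing of graded local cohomology along short exact sequences
-/

universe u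

namespace Groth.Agent.Lib.Helper6.CMReg

open CategoryTheory DirectSum Groth.Agent.Helper9.GrLCLib Groth.Agent.Helper8.LC

variable {R : Type u} [CommRing R] [IsNoetherianRing R] {𝒜 : ℤ → AddSubgroup R} [GradedRing 𝒜]

/-- the degree `k` piece of `H^q_a(X)` vanishes -/
def Van (a : HomogeneousIdeal 𝒜) (X : GrLC.GMod.{u} 𝒜) (q : ℕ) (k : ℤ) : Prop :=
  ∀ z : LocCoh.H a.toIdeal q X.carrier, z ∈ LCgr 𝒜 X.gr a.toIdeal q k → z = 0

section Maps

variable {M N P : Type u} [AddCommGroup M] [Module R M] [AddCommGroup N] [Module R N]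
  [AddCommGroup P] [Module R P]

lemma Hmap_comp (J : Ideal R) (q : ℕ) (f : M →ₗ[R] N) (g : N →ₗ[R] P) (x : LocCoh.H J q M) :
    ((localCohomology J q).map (ModuleCat.ofHom (g ∘ₗ f))) x =
      ((localCohomology J q).map (ModuleCat.ofHom g))
        (((localCohomology J q).map (ModuleCat.ofHom f)) x) := by
  rw [ModuleCat.ofHom_comp, Functor.map_comp]
  rfl

lemma Hmap_id (J : Ideal R) (q : ℕ) (x : LocCoh.H J q M) :
    ((localCohomology J q).map (ModuleCat.ofHom (LinearMap.id : M →ₗ[R] M))) x = x := by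
  rw [ModuleCat.ofHom_id, CategoryTheory.Functor.map_id]
  rfl

end Maps

variable (a : HomogeneousIdeal 𝒜)

/-- replacing a class by its degree `k` component -/
lemma exists_comp_of_map_mem (X Y : GrLC.GMod.{u} 𝒜) (f : X.carrier →ₗ[R] Y.carrier)
    (hf : GrLC.IsGrHom X.gr Y.gr f) (q : ℕ) (k : ℤ) (w : LocCoh.H a.toIdeal q X.carrier)
    (hw : ((localCohomology a.toIdeal q).map (ModuleCat.ofHom f)) w ∈
      LCgr 𝒜 Y.gr a.toIdeal q k) :
    ∃ w' : LocCoh.H a.toIdeal q X.carrier, w' ∈ LCgr 𝒜 X.gr a.toIdeal q k ∧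
      ((localCohomology a.toIdeal q).map (ModuleCat.ofHom f)) w' =
        ((localCohomology a.toIdeal q).map (ModuleCat.ofHom f)) w := by
  let G := LCGMod 𝒜 X.gr a q
  let G' := LCGMod 𝒜 Y.gr a q
  let F : G.carrier →ₗ[R] G'.carrier :=
    ((localCohomology a.toIdeal q).map (ModuleCat.ofHom f)).hom
  have hF : GrLC.IsGrHom G.gr G'.gr F := by
    intro g x hx
    have h1 := LCgr_map 𝒜 X.gr Y.gr a.toIdeal q g 0 f
      (fun k v hv => by rw [add_zero]; exact hf k v hv) x ((mem_LCGMod_gr 𝒜 X.gr a q g x).mp hx)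
    rw [add_zero] at h1
    exact (mem_LCGMod_gr 𝒜 Y.gr a q g _).mpr h1
  have h1 := proj_map_of_isGrHom G.gr G'.gr hF (w : G.carrier) k
  have hwG : (F (w : G.carrier) : G'.carrier) ∈ G'.gr k := (mem_LCGMod_gr 𝒜 Y.gr a q k _).mpr hw
  have h2 : proj G'.gr k (F (w : G.carrier)) = F (w : G.carrier) := proj_of_mem_same G'.gr hwG
  refine ⟨proj G.gr k (w : G.carrier), (mem_LCGMod_gr 𝒜 X.gr a q k _).mp (proj_mem G.gr k _), ?_⟩
  exact h1.symm.trans h2

section Mid

variable (X₁ X₂ : GrLC.GMod.{u} 𝒜) {M₃ : Type u} [AddCommGroup M₃] [Module R M₃]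
  (j : X₁.carrier →ₗ[R] X₂.carrier) (p : X₂.carrier →ₗ[R] M₃)

/-- vanishing in the middle of a short exact sequence, core form -/
theorem van_mid_core (h : p ∘ₗ j = 0) (hS : (sesOf j p h).ShortExact)
    (hj : GrLC.IsGrHom X₁.gr X₂.gr j) (q : ℕ) (k : ℤ) (h1 : Van a X₁ q k)
    (h3 : ∀ z : LocCoh.H a.toIdeal q X₂.carrier, z ∈ LCgr 𝒜 X₂.gr a.toIdeal q k →
      ((localCohomology a.toIdeal q).map (ModuleCat.ofHom p)) z = 0) : Van a X₂ q k := by
  intro z hz
  have hex := exact_f_g a.toIdeal q hS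
  obtain ⟨w, hw⟩ := (hex z).mp (h3 z hz)
  have hw' : ((localCohomology a.toIdeal q).map (ModuleCat.ofHom j)) w = z := hw
  obtain ⟨w', hw'1, hw'2⟩ := exists_comp_of_map_mem a X₁ X₂ j hj q k w (by rw [hw']; exact hz)
  rw [← hw', ← hw'2, h1 w' hw'1, map_zero]

/-- vanishing in the middle when the cohomology of the cokernel vanishes -/
theorem van_mid_of_subsingleton (h : p ∘ₗ j = 0) (hS : (sesOf j p h).ShortExact)
    (hj : GrLC.IsGrHom X₁.gr X₂.gr j) (q : ℕ) (k : ℤ) (h1 : Van a X₁ q k)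
    (h3 : Subsingleton (LocCoh.H a.toIdeal q M₃)) : Van a X₂ q k :=
  van_mid_core a X₁ X₂ j p h hS hj q k h1 (fun z _ => Subsingleton.elim _ _)

end Mid

section Three

variable (X₁ X₂ X₃ : GrLC.GMod.{u} 𝒜)
  (j : X₁.carrier →ₗ[R] X₂.carrier) (p : X₂.carrier →ₗ[R] X₃.carrier)

/-- vanishing in the middle of a short exact sequence -/
theorem van_mid (h : p ∘ₗ j = 0) (hS : (sesOf j p h).ShortExact)
    (hj : GrLC.IsGrHom X₁.gr X₂.gr j) (hp : GrLC.IsGrHom X₂.gr X₃.gr p) (q : ℕ) (k : ℤ)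
    (h1 : Van a X₁ q k) (h3 : Van a X₃ q k) : Van a X₂ q k := by
  refine van_mid_core a X₁ X₂ j p h hS hj q k h1 (fun z hz => ?_)
  apply h3
  have h4 := LCgr_map 𝒜 X₂.gr X₃.gr a.toIdeal q k 0 p
    (fun g v hv => by rw [add_zero]; exact hp g v hv) z hz
  rw [add_zero] at h4
  exact h4

/-- vanishing on the right of a short exact sequence -/
theorem van_right (h : p ∘ₗ j = 0) (hS : (sesOf j p h).ShortExact)
    (hj : GrLC.IsGrHom X₁.gr X₂.gr j) (hp : GrLC.IsGrHom X₂.gr X₃.gr p) (q : ℕ) (k : ℤ)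
    (h2 : Van a X₂ q k) (h1 : Van a X₁ (q + 1) k) : Van a X₃ q k := by
  intro z hz
  have hδ : δ a.toIdeal q hS z = 0 :=
    h1 _ (LCgr_δ 𝒜 X₁.gr X₂.gr X₃.gr j p h hS hj hp a.toIdeal q k z hz)
  obtain ⟨w, hw⟩ := (exact_g_δ a.toIdeal q hS z).mp hδ
  have hw' : ((localCohomology a.toIdeal q).map (ModuleCat.ofHom p)) w = z := hw
  obtain ⟨w', hw'1, hw'2⟩ := exists_comp_of_map_mem a X₂ X₃ p hp q k w (by rw [hw']; exact hz)
  rw [← hw', ← hw'2, h2 w' hw'1, map_zero]

end Three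

section Retract

/-- transfer of vanishing along a retraction homogeneous of some degree -/
theorem van_of_retract (X Y : GrLC.GMod.{u} 𝒜) (f : X.carrier →ₗ[R] Y.carrier)
    (g : Y.carrier →ₗ[R] X.carrier) (hfg : f ∘ₗ g = LinearMap.id) (t : ℤ)
    (hg : GrLC.IsGrHomDeg Y.gr X.gr g t) (q : ℕ) (k : ℤ) (h : Van a X q (k + t)) :
    Van a Y q k := by
  intro z hz
  have h1 := LCgr_map 𝒜 Y.gr X.gr a.toIdeal q k t g hg z hz
  have h2 := h _ h1
  have h3 := Hmap_comp a.toIdeal q g f z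
  rw [hfg, Hmap_id, h2, map_zero] at h3
  exact h3

/-- vanishing for a shift -/
theorem van_shift (X : GrLC.GMod.{u} 𝒜) (d : ℤ) (q : ℕ) (k : ℤ) (h : Van a X q (k - d)) :
    Van a (shiftGMod X d) q k := by
  refine van_of_retract a X (shiftGMod X d) (LinearMap.id : X.carrier →ₗ[R] X.carrier)
    (LinearMap.id : X.carrier →ₗ[R] X.carrier) rfl (-d) ?_ q k ?_
  · intro g x hx
    have h1 : x ∈ X.gr (g - d) := (mem_shiftGMod_gr X d g x).mp hx
    rw [← sub_eq_add_neg]
    exact h1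
  · rw [← sub_eq_add_neg]
    exact h

/-- transfer along a homogeneous isomorphism -/
theorem van_of_equiv (X Y : GrLC.GMod.{u} 𝒜) (e : X.carrier ≃ₗ[R] Y.carrier)
    (he : GrLC.IsGrHom Y.gr X.gr e.symm.toLinearMap) (q : ℕ) (k : ℤ) (h : Van a X q k) :
    Van a Y q k := by
  refine van_of_retract a X Y e.toLinearMap e.symm.toLinearMap e.comp_symm 0 ?_ q k ?_
  · intro g x hx
    rw [add_zero]
    exact he g x hx
  · rw [add_zero]
    exact h

end Retract

section Zero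

theorem van_of_subsingleton (X : GrLC.GMod.{u} 𝒜) (hX : Subsingleton X.carrier) (q : ℕ) (k : ℤ) :
    Van a X q k := by
  intro z hz
  haveI : Subsingleton (ModuleCat.of R X.carrier) := hX
  haveI := subsingleton_of_subsingleton a.toIdeal q (ModuleCat.of R X.carrier)
  exact Subsingleton.elim _ _

theorem van_of_card_lt (s : Finset R) (hs : a.toIdeal = Ideal.span (s : Set R))
    (X : GrLC.GMod.{u} 𝒜) (q : ℕ) (hq : s.card < q) (k : ℤ) : Van a X q k := by
  intro z hz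
  have h1 := cdLE_span_finset s X.carrier q hq
  rw [← hs] at h1
  exact Subsingleton.elim _ _

/-- the degree zero cohomology of a torsion module is the module -/
theorem eq_zero_of_van_zero (X : GrLC.GMod.{u} 𝒜) (k : ℤ) (h : Van a X 0 k) (x : X.carrier)
    (hx : x ∈ X.gr k) (ht : ∃ n : ℕ, ∀ r ∈ a.toIdeal ^ n, r • x = 0) : x = 0 := by
  obtain ⟨z, hz⟩ := exists_ev0_eq a.toIdeal (ModuleCat.of R X.carrier) x ht
  have hz' : z ∈ LCgr 𝒜 X.gr a.toIdeal 0 k := by
    have h1 : ev0 a.toIdeal (ModuleCat.of R X.carrier) z ∈ X.gr k := by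
      rw [hz]
      exact hx
    exact (URes.mem_GrH1_zero a.toIdeal (ofStar 𝒜 X.gr (Groth.Agent.S13215.Aux.res 𝒜 X.gr)) (X.gr k)
      (fun n => ((Groth.Agent.S13215.Aux.res 𝒜 X.gr).X n).gr k) z).mpr h1
  rw [← hz, h z hz', map_zero]

end Zero

end Groth.Agent.Lib.Helper6.CMReg
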