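import Mathlib
import Groth.Prelude.Def_GrLC
import Groth.Prelude.Def_Wider
import Groth.Agent.Lib.Helper9.GrLC.GrH2
import Groth.Agent.Lib.Helper9.GrLC.Ess
import Groth.Agent.Lib.Helper6.CMReg.CRa
import Groth.Agent.Lib.Helper6.CMReg.CRb

set_option autoImplicit false
set_option linter.unusedSectionVars false
set_option linter.unusedVariables false
set_option linter.unusedSimpArgs false
set_option linter.style.haveILetI false
set_option maxHeartbeats 400000

/-!
# Vanishing lemmas for homogeneous submodules of a graded module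
-/

universe u

namespace Groth.Agent.Lib.Helper6.CMReg

open CategoryTheory DirectSum Groth.Agent.Helper9.GrLCLib Groth.Agent.Helper8.LC

variable {R : Type u} [CommRing R] [IsNoetherianRing R] {𝒜 : ℤ → AddSubgroup R} [GradedRing 𝒜]
variable (a : HomogeneousIdeal 𝒜)

section Sub

variable (T : GrLC.GMod.{u} 𝒜) (P Q : Submodule R T.carrier)
  (hP : P.IsHomogeneous T.gr) (hQ : Q.IsHomogeneous T.gr)

/-- the inclusion between two homogeneous submodules -/
def inclMap (h : P ≤ Q) : (subGMod T P hP).carrier →ₗ[R] (subGMod T Q hQ).carrier :=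
  Submodule.inclusion h

lemma subMap_inclMap (h : P ≤ Q) (x : (subGMod T P hP).carrier) :
    subMap T Q hQ (inclMap T P Q hP hQ h x) = subMap T P hP x := rfl

lemma inclMap_injective (h : P ≤ Q) : Function.Injective (inclMap T P Q hP hQ h) := by
  intro x y hxy
  apply subMap_injective T P hP
  rw [← subMap_inclMap T P Q hP hQ h x, ← subMap_inclMap T P Q hP hQ h y, hxy]

lemma isGrHom_inclMap (h : P ≤ Q) :
    GrLC.IsGrHom (subGMod T P hP).gr (subGMod T Q hQ).gr (inclMap T P Q hP hQ h) := by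
  intro k x hx
  exact (mem_subGMod_gr T Q hQ k _).mpr ((mem_subGMod_gr T P hP k x).mp hx)

/-- `P` as a submodule of the graded module `Q` -/
noncomputable def subComap : Submodule R (subGMod T Q hQ).carrier := P.comap (subMap T Q hQ)

lemma mem_subComap (x : (subGMod T Q hQ).carrier) :
    x ∈ subComap T P Q hQ ↔ subMap T Q hQ x ∈ P := Iff.rfl

include hP in
lemma subComap_isHomogeneous : (subComap T P Q hQ).IsHomogeneous (subGMod T Q hQ).gr :=
  comap_isHomogeneous (subGMod T Q hQ).gr T.gr (isGrHom_subMap T Q hQ) hP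

/-- the graded quotient `Q/P` -/
noncomputable def sqGMod : GrLC.GMod.{u} 𝒜 :=
  quotGMod (subGMod T Q hQ) (subComap T P Q hQ) (subComap_isHomogeneous T P Q hP hQ)

/-- the quotient map of `Q` onto `Q/P` -/
noncomputable def sqMap : (subGMod T Q hQ).carrier →ₗ[R] (sqGMod T P Q hP hQ).carrier :=
  quotMap (subGMod T Q hQ) (subComap T P Q hQ) (subComap_isHomogeneous T P Q hP hQ)

lemma sqMap_eq_zero_iff (x : (subGMod T Q hQ).carrier) :
    sqMap T P Q hP hQ x = 0 ↔ subMap T Q hQ x ∈ P :=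
  quotMap_eq_zero_iff (subGMod T Q hQ) (subComap T P Q hQ) _ x

lemma isGrHom_sqMap :
    GrLC.IsGrHom (subGMod T Q hQ).gr (sqGMod T P Q hP hQ).gr (sqMap T P Q hP hQ) :=
  isGrHom_quotMap _ _ _

lemma sqMap_surjective : Function.Surjective (sqMap T P Q hP hQ) :=
  quotMap_surjective _ _ _

lemma sqMap_comp_inclMap (h : P ≤ Q) : sqMap T P Q hP hQ ∘ₗ inclMap T P Q hP hQ h = 0 := by
  apply LinearMap.ext
  intro x
  rw [LinearMap.comp_apply, LinearMap.zero_apply, sqMap_eq_zero_iff, subMap_inclMap]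
  exact subMap_mem T P hP x

lemma ses_incl_sq (h : P ≤ Q) :
    (sesOf (inclMap T P Q hP hQ h) (sqMap T P Q hP hQ)
      (sqMap_comp_inclMap T P Q hP hQ h)).ShortExact := by
  apply sesOf_shortExact
  · exact inclMap_injective T P Q hP hQ h
  · exact sqMap_surjective T P Q hP hQ
  · ext x
    rw [LinearMap.mem_ker, sqMap_eq_zero_iff]
    constructor
    · intro hx
      have h1 : ∃ z : (subGMod T P hP).carrier, subMap T P hP z = subMap T Q hQ x :=
        ⟨(⟨subMap T Q hQ x, hx⟩ : ↥P), rfl⟩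
      obtain ⟨z, hz⟩ := h1
      refine ⟨z, ?_⟩
      apply subMap_injective T Q hQ
      rw [subMap_inclMap, hz]
    · rintro ⟨z, rfl⟩
      rw [subMap_inclMap]
      exact subMap_mem T P hP z

/-- if `Q/P` is killed by `a` then vanishing passes from `P` to `Q` in positive degrees -/
theorem van_sub_of_torsion (h : P ≤ Q)
    (ht : ∀ x ∈ Q, ∀ r ∈ a.toIdeal, r • x ∈ P) (q : ℕ) (hq : 1 ≤ q) (k : ℤ)
    (hv : Van a (subGMod T P hP) q k) : Van a (subGMod T Q hQ) q k := by
  have htor : LocCoh.IsPowerTorsion a.toIdeal (sqGMod T P Q hP hQ).carrier := by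
    intro m
    obtain ⟨x, rfl⟩ := sqMap_surjective T P Q hP hQ m
    refine ⟨1, fun r hr => ?_⟩
    rw [pow_one] at hr
    rw [← map_smul, sqMap_eq_zero_iff, map_smul]
    exact ht _ (subMap_mem T Q hQ x) r hr
  have hsub := subsingleton_of_isPowerTorsion a.toIdeal q (by omega) _ htor
  exact van_mid_of_subsingleton a (subGMod T P hP) (subGMod T Q hQ) (inclMap T P Q hP hQ h)
    (sqMap T P Q hP hQ) (sqMap_comp_inclMap T P Q hP hQ h) (ses_incl_sq T P Q hP hQ h)
    (isGrHom_inclMap T P Q hP hQ h) q k hv hsub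

/-- vanishing for the graded quotient `Q/P` -/
theorem van_quot (h : P ≤ Q) (q : ℕ) (k : ℤ) (h2 : Van a (subGMod T Q hQ) q k)
    (h1 : Van a (subGMod T P hP) (q + 1) k) : Van a (sqGMod T P Q hP hQ) q k :=
  van_right a (subGMod T P hP) (subGMod T Q hQ) (sqGMod T P Q hP hQ)
    (inclMap T P Q hP hQ h) (sqMap T P Q hP hQ)
    (sqMap_comp_inclMap T P Q hP hQ h) (ses_incl_sq T P Q hP hQ h)
    (isGrHom_inclMap T P Q hP hQ h) (isGrHom_sqMap T P Q hP hQ) q k h2 h1

/-- homogeneous elements of `Q` of degree `k` lie in `P` -/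
theorem mem_of_van (h : P ≤ Q) (ht : ∀ x ∈ Q, ∀ r ∈ a.toIdeal, r • x ∈ P) (k : ℤ)
    (h2 : Van a (subGMod T Q hQ) 0 k) (h1 : Van a (subGMod T P hP) 1 k)
    (x : T.carrier) (hxQ : x ∈ Q) (hxk : x ∈ T.gr k) : x ∈ P := by
  have hv := van_quot a T P Q hP hQ h 0 k h2 h1
  obtain ⟨x', hx'⟩ : ∃ x' : (subGMod T Q hQ).carrier, subMap T Q hQ x' = x :=
    ⟨(⟨x, hxQ⟩ : ↥Q), rfl⟩
  have hx'k : x' ∈ (subGMod T Q hQ).gr k := by
    apply (mem_subGMod_gr T Q hQ k x').mpr
    rw [hx']
    exact hxk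
  have h3 : sqMap T P Q hP hQ x' ∈ (sqGMod T P Q hP hQ).gr k :=
    isGrHom_sqMap T P Q hP hQ k x' hx'k
  have h4 : sqMap T P Q hP hQ x' = 0 := by
    apply eq_zero_of_van_zero a _ k hv _ h3
    refine ⟨1, fun r hr => ?_⟩
    rw [pow_one] at hr
    rw [← map_smul, sqMap_eq_zero_iff, map_smul, hx']
    exact ht x hxQ r hr
  rw [sqMap_eq_zero_iff, hx'] at h4
  exact h4

end Sub

section MapKer

variable (T T' : GrLC.GMod.{u} 𝒜) (f : T.carrier →ₗ[R] T'.carrier)
  (hf : GrLC.IsGrHom T.gr T'.gr f) (Q : Submodule R T.carrier) (hQ : Q.IsHomogeneous T.gr)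

/-- the restriction of `f` to `Q`, onto its image -/
def resMap (hB : (Q.map f).IsHomogeneous T'.gr) :
    (subGMod T Q hQ).carrier →ₗ[R] (subGMod T' (Q.map f) hB).carrier :=
  f.restrict (p := Q) (q := Q.map f) (fun x hx => Submodule.mem_map_of_mem hx)

lemma subMap_resMap (hB : (Q.map f).IsHomogeneous T'.gr) (x : (subGMod T Q hQ).carrier) :
    subMap T' (Q.map f) hB (resMap T T' f Q hQ hB x) = f (subMap T Q hQ x) := rfl

include hf in
/-- vanishing for the image of `Q` under a homogeneous map -/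
theorem van_map (hZ : (Q ⊓ LinearMap.ker f).IsHomogeneous T.gr)
    (hB : (Q.map f).IsHomogeneous T'.gr) (q : ℕ) (k : ℤ)
    (h2 : Van a (subGMod T Q hQ) q k)
    (h1 : Van a (subGMod T (Q ⊓ LinearMap.ker f) hZ) (q + 1) k) :
    Van a (subGMod T' (Q.map f) hB) q k := by
  have hle : Q ⊓ LinearMap.ker f ≤ Q := inf_le_left
  have h0 : resMap T T' f Q hQ hB ∘ₗ inclMap T (Q ⊓ LinearMap.ker f) Q hZ hQ hle = 0 := by
    apply LinearMap.ext
    intro x
    apply subMap_injective T' (Q.map f) hB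
    rw [LinearMap.comp_apply, subMap_resMap, subMap_inclMap, LinearMap.zero_apply, map_zero]
    have hx : subMap T (Q ⊓ LinearMap.ker f) hZ x ∈ Q ⊓ LinearMap.ker f := subMap_mem T _ hZ x
    exact hx.2
  have hS : (sesOf (inclMap T (Q ⊓ LinearMap.ker f) Q hZ hQ hle) (resMap T T' f Q hQ hB)
      h0).ShortExact := by
    apply sesOf_shortExact
    · exact inclMap_injective T _ Q hZ hQ hle
    · intro y
      have hy : subMap T' (Q.map f) hB y ∈ Q.map f := subMap_mem T' _ hB y
      obtain ⟨x, hx, hxy⟩ := hy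
      obtain ⟨x', hx'⟩ : ∃ x' : (subGMod T Q hQ).carrier, subMap T Q hQ x' = x :=
        ⟨(⟨x, hx⟩ : ↥Q), rfl⟩
      refine ⟨x', ?_⟩
      apply subMap_injective T' (Q.map f) hB
      rw [subMap_resMap, hx', hxy]
    · ext x
      constructor
      · intro hx
        have h1 : f (subMap T Q hQ x) = 0 := by
          rw [← subMap_resMap T T' f Q hQ hB x, LinearMap.mem_ker.mp hx, map_zero]
        obtain ⟨z, hz⟩ : ∃ z : (subGMod T (Q ⊓ LinearMap.ker f) hZ).carrier,
            subMap T _ hZ z = subMap T Q hQ x :=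
          ⟨(⟨subMap T Q hQ x, ⟨subMap_mem T Q hQ x, h1⟩⟩ : ↥(Q ⊓ LinearMap.ker f)), rfl⟩
        refine ⟨z, ?_⟩
        apply subMap_injective T Q hQ
        rw [subMap_inclMap, hz]
      · rintro ⟨z, rfl⟩
        exact LinearMap.congr_fun h0 z
  refine van_right a (subGMod T (Q ⊓ LinearMap.ker f) hZ) (subGMod T Q hQ)
    (subGMod T' (Q.map f) hB) _ _ h0 hS (isGrHom_inclMap T _ Q hZ hQ hle) ?_ q k h2 h1
  intro g x hx
  apply (mem_subGMod_gr T' (Q.map f) hB g _).mpr
  rw [subMap_resMap]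
  exact hf g _ ((mem_subGMod_gr T Q hQ g x).mp hx)

end MapKer

end Groth.Agent.Lib.Helper6.CMReg
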