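import Mathlib
import Groth.Prelude.Def_GrLC
import Groth.Prelude.Def_Wider
import Groth.Agent.Lib.Helper9.GrLC.GrH2
import Groth.Agent.Lib.Helper9.GrLC.Ess
import Groth.Agent.Lib.Helper6.CMReg.CRa
import Groth.Agent.Lib.Helper6.CMReg.CRb
import Groth.Agent.Lib.Helper6.CMReg.CRc

set_option autoImplicit false
set_option linter.unusedSectionVars false
set_option linter.unusedVariables false
set_option linter.unusedSimpArgs false
set_option linter.style.haveILetI false
set_option maxHeartbeats 400000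

/-!
# The mapping cone of multiplication by a linear form on a graded module with a differential
-/

universe u

namespace Groth.Agent.Lib.Helper6.CMReg

open CategoryTheory DirectSum Groth.Agent.Helper9.GrLCLib Groth.Agent.Helper8.LC

variable {R : Type u} [CommRing R] {𝒜 : ℤ → AddSubgroup R} [GradedRing 𝒜]

section Proj

lemma proj_prodGMod (X Y : GrLC.GMod.{u} 𝒜) (z : X.carrier × Y.carrier) (k : ℤ) :
    proj (prodGMod X Y).gr k (z : (prodGMod X Y).carrier) =
      ((proj X.gr k z.1, proj Y.gr k z.2) : X.carrier × Y.carrier) := by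
  have h := proj_coe_prod X Y (DirectSum.decompose (prodGMod X Y).gr z) k
  have hz : DirectSum.coeAddMonoidHom (prodFam X Y) (DirectSum.decompose (prodGMod X Y).gr z) = z :=
    (DirectSum.decompose (prodGMod X Y).gr).symm_apply_apply z
  rw [hz] at h
  exact Prod.ext h.1.symm h.2.symm

lemma proj_shiftGMod (A : GrLC.GMod.{u} 𝒜) (d : ℤ) (x : A.carrier) (g : ℤ) :
    proj (shiftGMod A d).gr g (x : (shiftGMod A d).carrier) = proj A.gr (g - d) x :=
  map_proj_pull A.gr (LinearMap.id : A.carrier →ₗ[R] A.carrier) d Function.injective_id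
    (fun _ _ => ⟨_, rfl⟩) x g

end Proj

section Cone

variable (T : GrLC.GMod.{u} 𝒜)

/-- the graded module `T ⊕ T(-1)` -/
noncomputable def coneGMod : GrLC.GMod.{u} 𝒜 := prodGMod T (shiftGMod T 1)

/-- elements of the cone -/
noncomputable def cmk (u v : T.carrier) : (coneGMod T).carrier := ((u, v) : T.carrier × T.carrier)

/-- first component -/
noncomputable def cfst : (coneGMod T).carrier →ₗ[R] T.carrier := LinearMap.fst R T.carrier T.carrier

/-- second component -/
noncomputable def csnd : (coneGMod T).carrier →ₗ[R] T.carrier := LinearMap.snd R T.carrier T.carrier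

/-- first inclusion -/
noncomputable def cinl : T.carrier →ₗ[R] (coneGMod T).carrier := LinearMap.inl R T.carrier T.carrier

@[simp] lemma cfst_cmk (u v : T.carrier) : cfst T (cmk T u v) = u := rfl
@[simp] lemma csnd_cmk (u v : T.carrier) : csnd T (cmk T u v) = v := rfl
@[simp] lemma cfst_cinl (u : T.carrier) : cfst T (cinl T u) = u := rfl
@[simp] lemma csnd_cinl (u : T.carrier) : csnd T (cinl T u) = 0 := rfl

lemma cone_ext {z z' : (coneGMod T).carrier} (h1 : cfst T z = cfst T z')
    (h2 : csnd T z = csnd T z') : z = z' := Prod.ext h1 h2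

lemma cinl_eq (z : (coneGMod T).carrier) (hz : csnd T z = 0) : cinl T (cfst T z) = z :=
  cone_ext T rfl hz.symm

lemma mem_coneGMod_gr (g : ℤ) (z : (coneGMod T).carrier) :
    z ∈ (coneGMod T).gr g ↔ cfst T z ∈ T.gr g ∧ csnd T z ∈ T.gr (g - 1) := Iff.rfl

lemma cfst_proj (k : ℤ) (z : (coneGMod T).carrier) :
    cfst T (proj (coneGMod T).gr k z) = proj T.gr k (cfst T z) := by
  have h := proj_prodGMod T (shiftGMod T 1) z k
  exact congrArg Prod.fst h

lemma csnd_proj (k : ℤ) (z : (coneGMod T).carrier) :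
    csnd T (proj (coneGMod T).gr k z) = proj T.gr (k - 1) (csnd T z) := by
  have h := proj_prodGMod T (shiftGMod T 1) z k
  exact (congrArg Prod.snd h).trans (proj_shiftGMod T 1 _ k)

/-- a map of the cone given by a matrix -/
noncomputable def cmat (A B C D : T.carrier →ₗ[R] T.carrier) :
    (coneGMod T).carrier →ₗ[R] (coneGMod T).carrier :=
  LinearMap.prod (A ∘ₗ LinearMap.fst R T.carrier T.carrier + B ∘ₗ LinearMap.snd R T.carrier T.carrier)
    (C ∘ₗ LinearMap.fst R T.carrier T.carrier + D ∘ₗ LinearMap.snd R T.carrier T.carrier)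

lemma cfst_cmat (A B C D : T.carrier →ₗ[R] T.carrier) (z : (coneGMod T).carrier) :
    cfst T (cmat T A B C D z) = A (cfst T z) + B (csnd T z) := rfl

lemma csnd_cmat (A B C D : T.carrier →ₗ[R] T.carrier) (z : (coneGMod T).carrier) :
    csnd T (cmat T A B C D z) = C (cfst T z) + D (csnd T z) := rfl

/-- a product submodule of the cone -/
noncomputable def coneSub (P Q : Submodule R T.carrier) : Submodule R (coneGMod T).carrier :=
  Submodule.prod P Q

lemma mem_coneSub (P Q : Submodule R T.carrier) (z : (coneGMod T).carrier) :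
    z ∈ coneSub T P Q ↔ cfst T z ∈ P ∧ csnd T z ∈ Q := Iff.rfl

lemma coneSub_isHomogeneous (P Q : Submodule R T.carrier) (hP : P.IsHomogeneous T.gr)
    (hQ : Q.IsHomogeneous T.gr) : (coneSub T P Q).IsHomogeneous (coneGMod T).gr := by
  rw [isHomogeneous_iff_proj]
  intro k z hz
  rw [mem_coneSub] at hz ⊢
  rw [cfst_proj, csnd_proj]
  exact ⟨hP k hz.1, hQ (k - 1) hz.2⟩

/-- the differential of the cone of multiplication by `y` -/
noncomputable def coneD (D : T.carrier →ₗ[R] T.carrier) (y : R) :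
    (coneGMod T).carrier →ₗ[R] (coneGMod T).carrier :=
  cmat T D (y • LinearMap.id) 0 (-D)

lemma cfst_coneD (D : T.carrier →ₗ[R] T.carrier) (y : R) (z : (coneGMod T).carrier) :
    cfst T (coneD T D y z) = D (cfst T z) + y • csnd T z := rfl

lemma csnd_coneD (D : T.carrier →ₗ[R] T.carrier) (y : R) (z : (coneGMod T).carrier) :
    csnd T (coneD T D y z) = - D (csnd T z) := by
  unfold coneD
  rw [csnd_cmat, LinearMap.zero_apply, zero_add, LinearMap.neg_apply]

lemma coneD_coneD (D : T.carrier →ₗ[R] T.carrier) (hDD : ∀ x, D (D x) = 0) (y : R)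
    (z : (coneGMod T).carrier) : coneD T D y (coneD T D y z) = 0 := by
  apply cone_ext
  · rw [cfst_coneD, cfst_coneD, csnd_coneD, map_add, hDD, map_smul, smul_neg, map_zero]
    abel
  · rw [csnd_coneD, csnd_coneD, map_neg, hDD, map_zero]
    simp

lemma isGrHom_coneD (D : T.carrier →ₗ[R] T.carrier) (hD : GrLC.IsGrHom T.gr T.gr D) (y : R)
    (hy : y ∈ 𝒜 1) : GrLC.IsGrHom (coneGMod T).gr (coneGMod T).gr (coneD T D y) := by
  intro g z hz
  rw [mem_coneGMod_gr] at hz ⊢
  rw [cfst_coneD, csnd_coneD]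
  refine ⟨add_mem (hD g _ hz.1) ?_, neg_mem (hD (g - 1) _ hz.2)⟩
  have h1 := smul_mem_add 𝒜 T.gr hy hz.2
  have h2 : (1 : ℤ) + (g - 1) = g := by ring
  rw [h2] at h1
  exact h1

/-- the homotopy for the new variable -/
noncomputable def coneS : (coneGMod T).carrier →ₗ[R] (coneGMod T).carrier :=
  cmat T 0 0 LinearMap.id 0

lemma cfst_coneS (z : (coneGMod T).carrier) : cfst T (coneS T z) = 0 := by
  unfold coneS
  rw [cfst_cmat, LinearMap.zero_apply, LinearMap.zero_apply, add_zero]

lemma csnd_coneS (z : (coneGMod T).carrier) : csnd T (coneS T z) = cfst T z := by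
  unfold coneS
  rw [csnd_cmat, LinearMap.zero_apply, add_zero, LinearMap.id_apply]

lemma coneS_htpy (D : T.carrier →ₗ[R] T.carrier) (y : R) (z : (coneGMod T).carrier) :
    coneD T D y (coneS T z) + coneS T (coneD T D y z) = y • z := by
  apply cone_ext
  · rw [map_add, cfst_coneD, cfst_coneS, csnd_coneS, cfst_coneS, map_zero, map_smul]
    abel
  · rw [map_add, csnd_coneD, csnd_coneS, csnd_coneS, cfst_coneD, map_smul]
    abel

/-- the extension of an old homotopy -/
noncomputable def coneH (h : T.carrier →ₗ[R] T.carrier) : (coneGMod T).carrier →ₗ[R] (coneGMod T).carrier :=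
  cmat T h 0 0 (-h)

lemma cfst_coneH (h : T.carrier →ₗ[R] T.carrier) (z : (coneGMod T).carrier) :
    cfst T (coneH T h z) = h (cfst T z) := by
  unfold coneH
  rw [cfst_cmat, LinearMap.zero_apply, add_zero]

lemma csnd_coneH (h : T.carrier →ₗ[R] T.carrier) (z : (coneGMod T).carrier) :
    csnd T (coneH T h z) = - h (csnd T z) := by
  unfold coneH
  rw [csnd_cmat, LinearMap.zero_apply, zero_add, LinearMap.neg_apply]

lemma coneH_htpy (D h : T.carrier →ₗ[R] T.carrier) (y y' : R)
    (hh : ∀ x, D (h x) + h (D x) = y' • x) (z : (coneGMod T).carrier) :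
    coneD T D y (coneH T h z) + coneH T h (coneD T D y z) = y' • z := by
  apply cone_ext
  · rw [map_add, cfst_coneD, cfst_coneH, csnd_coneH, cfst_coneH, cfst_coneD, map_add, map_smul,
      map_smul, smul_neg, ← hh (cfst T z)]
    abel
  · rw [map_add, csnd_coneD, csnd_coneH, csnd_coneH, csnd_coneD, map_neg, map_neg, map_smul,
      ← hh (csnd T z)]
    abel

end Cone

section ConeVan

variable [IsNoetherianRing R] (a : HomogeneousIdeal 𝒜)

/-- vanishing in the middle, the third map being homogeneous of some degree -/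
theorem van_mid_deg (X₁ X₂ X₃ : GrLC.GMod.{u} 𝒜)
    (j : X₁.carrier →ₗ[R] X₂.carrier) (p : X₂.carrier →ₗ[R] X₃.carrier)
    (h : p ∘ₗ j = 0) (hS : (sesOf j p h).ShortExact)
    (hj : GrLC.IsGrHom X₁.gr X₂.gr j) (t : ℤ) (hp : GrLC.IsGrHomDeg X₂.gr X₃.gr p t) (q : ℕ)
    (k : ℤ) (h1 : Van a X₁ q k) (h3 : Van a X₃ q (k + t)) : Van a X₂ q k := by
  refine van_mid_core a X₁ X₂ j p h hS hj q k h1 (fun z hz => ?_)
  apply h3
  exact LCgr_map 𝒜 X₂.gr X₃.gr a.toIdeal q k t p hp z hz

variable (T : GrLC.GMod.{u} 𝒜) (P Q : Submodule R T.carrier)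
  (hP : P.IsHomogeneous T.gr) (hQ : Q.IsHomogeneous T.gr)

/-- vanishing for a product submodule of the cone -/
theorem van_coneSub (q : ℕ) (k : ℤ) (h1 : Van a (subGMod T P hP) q k)
    (h2 : Van a (subGMod T Q hQ) q (k - 1)) :
    Van a (subGMod (coneGMod T) (coneSub T P Q) (coneSub_isHomogeneous T P Q hP hQ)) q k := by
  have hPQ := coneSub_isHomogeneous T P Q hP hQ
  let j : (subGMod T P hP).carrier →ₗ[R] (subGMod (coneGMod T) (coneSub T P Q) hPQ).carrier :=
    subLift (coneGMod T) (coneSub T P Q) hPQ (cinl T ∘ₗ subMap T P hP)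
      (fun x => ⟨subMap_mem T P hP x, Q.zero_mem⟩)
  let p : (subGMod (coneGMod T) (coneSub T P Q) hPQ).carrier →ₗ[R] (subGMod T Q hQ).carrier :=
    subLift T Q hQ (csnd T ∘ₗ subMap (coneGMod T) (coneSub T P Q) hPQ)
      (fun z => (subMap_mem (coneGMod T) (coneSub T P Q) hPQ z).2)
  have hj : ∀ x, subMap (coneGMod T) (coneSub T P Q) hPQ (j x) = cinl T (subMap T P hP x) :=
    fun x => rfl
  have hp : ∀ z, subMap T Q hQ (p z) = csnd T (subMap (coneGMod T) (coneSub T P Q) hPQ z) :=
    fun z => rfl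
  have h0 : p ∘ₗ j = 0 := by
    apply LinearMap.ext
    intro x
    apply subMap_injective T Q hQ
    rw [LinearMap.comp_apply, hp, hj, csnd_cinl, LinearMap.zero_apply, map_zero]
  have hS : (sesOf j p h0).ShortExact := by
    apply sesOf_shortExact
    · intro x x' hxx'
      apply subMap_injective T P hP
      have := congrArg (fun z => cfst T (subMap (coneGMod T) (coneSub T P Q) hPQ z)) hxx'
      simpa only [hj, cfst_cinl] using this
    · intro y
      obtain ⟨z, hz⟩ : ∃ z : (subGMod (coneGMod T) (coneSub T P Q) hPQ).carrier,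
          subMap (coneGMod T) (coneSub T P Q) hPQ z = cmk T 0 (subMap T Q hQ y) :=
        ⟨(⟨cmk T 0 (subMap T Q hQ y), ⟨P.zero_mem, subMap_mem T Q hQ y⟩⟩ : ↥(coneSub T P Q)), rfl⟩
      refine ⟨z, ?_⟩
      apply subMap_injective T Q hQ
      rw [hp, hz, csnd_cmk]
    · ext z
      constructor
      · intro hz
        have h3 : csnd T (subMap (coneGMod T) (coneSub T P Q) hPQ z) = 0 := by
          rw [← hp, LinearMap.mem_ker.mp hz, map_zero]
        have h4 : cfst T (subMap (coneGMod T) (coneSub T P Q) hPQ z) ∈ P :=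
          (subMap_mem (coneGMod T) (coneSub T P Q) hPQ z).1
        obtain ⟨x, hx⟩ : ∃ x : (subGMod T P hP).carrier,
            subMap T P hP x = cfst T (subMap (coneGMod T) (coneSub T P Q) hPQ z) :=
          ⟨(⟨_, h4⟩ : ↥P), rfl⟩
        refine ⟨x, ?_⟩
        apply subMap_injective (coneGMod T) (coneSub T P Q) hPQ
        rw [hj, hx]
        exact cinl_eq T _ h3
      · rintro ⟨x, rfl⟩
        exact LinearMap.congr_fun h0 x
  refine van_mid_deg a (subGMod T P hP) (subGMod (coneGMod T) (coneSub T P Q) hPQ)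
    (subGMod T Q hQ) j p h0 hS ?_ (-1) ?_ q k h1 ?_
  · intro g x hx
    apply (mem_subGMod_gr (coneGMod T) (coneSub T P Q) hPQ g _).mpr
    rw [hj, mem_coneGMod_gr, cfst_cinl, csnd_cinl]
    exact ⟨(mem_subGMod_gr T P hP g x).mp hx, (T.gr (g - 1)).zero_mem⟩
  · intro g z hz
    apply (mem_subGMod_gr T Q hQ (g + -1) _).mpr
    rw [hp, ← sub_eq_add_neg]
    exact ((mem_coneGMod_gr T g _).mp ((mem_subGMod_gr (coneGMod T) (coneSub T P Q) hPQ g z).mp hz)).2
  · rw [← sub_eq_add_neg]
    exact h2

end ConeVan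

end Groth.Agent.Lib.Helper6.CMReg
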