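import Mathlib
import Groth.Prelude.Def_GrLC
import Groth.Prelude.Def_Wider
import Groth.Agent.Lib.Helper9.GrLC.GrH2
import Groth.Agent.Lib.Helper9.GrLC.Ess
import Groth.Agent.Lib.Helper6.CMReg.CRa
import Groth.Agent.Lib.Helper6.CMReg.CRb
import Groth.Agent.Lib.Helper6.CMReg.CRc
import Groth.Agent.Lib.Helper6.CMReg.CRd

set_option autoImplicit false
set_option linter.unusedSectionVars false
set_option linter.unusedVariables false
set_option linter.unusedSimpArgs false
set_option linter.style.haveILetI false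
set_option maxHeartbeats 400000

/-!
# Koszul packages: the total module of a Koszul complex on linear forms with its homotopies
-/

universe u

namespace Groth.Agent.Lib.Helper6.CMReg

open CategoryTheory DirectSum Groth.Agent.Helper9.GrLCLib Groth.Agent.Helper8.LC

variable {R : Type u} [CommRing R] [IsNoetherianRing R] {𝒜 : ℤ → AddSubgroup R} [GradedRing 𝒜]

/-- the total module of a Koszul type complex on a list of elements, with its filtration pieces,
contracting homotopies and vanishing transfer -/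
structure KPack (a : HomogeneousIdeal 𝒜) (M : GrLC.GMod.{u} 𝒜) (ys : List R) where
  /-- the total module -/
  T : GrLC.GMod.{u} 𝒜
  /-- the differential -/
  D : T.carrier →ₗ[R] T.carrier
  D_gr : GrLC.IsGrHom T.gr T.gr D
  D_D : ∀ x, D (D x) = 0
  /-- the terms -/
  C : ℕ → Submodule R T.carrier
  C_hom : ∀ j, (C j).IsHomogeneous T.gr
  D_C : ∀ j x, x ∈ C (j + 1) → D x ∈ C j
  D_zero : ∀ x, x ∈ C 0 → D x = 0
  htpy : ∀ y ∈ ys, ∃ h : T.carrier →ₗ[R] T.carrier,
    (∀ j x, x ∈ C j → h x ∈ C (j + 1)) ∧ ∀ x, D (h x) + h (D x) = y • x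
  /-- the augmentation -/
  φ : M.carrier →ₗ[R] T.carrier
  φ_gr : GrLC.IsGrHom M.gr T.gr φ
  φ_inj : Function.Injective φ
  φ_range : LinearMap.range φ = C 0
  D_one : ∀ x, x ∈ C 1 →
    ∃ m ∈ (Ideal.span {y | y ∈ ys} • (⊤ : Submodule R M.carrier)), φ m = D x
  van : ∀ (j q : ℕ) (k : ℤ), Van a M q (k - j) → Van a (subGMod T (C j) (C_hom j)) q k

section Base

variable (a : HomogeneousIdeal 𝒜) (M : GrLC.GMod.{u} 𝒜)

/-- the terms of the trivial complex -/
def baseC : ℕ → Submodule R M.carrier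
  | 0 => ⊤
  | _ + 1 => ⊥

lemma baseC_hom : ∀ j, (baseC M j).IsHomogeneous M.gr
  | 0 => top_isHomogeneous M.gr
  | _ + 1 => bot_isHomogeneous M.gr

lemma van_top (q : ℕ) (k : ℤ) (h : Van a M q k) :
    Van a (subGMod M ⊤ (top_isHomogeneous M.gr)) q k := by
  refine van_of_equiv a M (subGMod M ⊤ (top_isHomogeneous M.gr))
    (Submodule.topEquiv (R := R) (M := M.carrier)).symm ?_ q k h
  intro g x hx
  exact (mem_subGMod_gr M ⊤ (top_isHomogeneous M.gr) g x).mp hx

/-- the package of the empty list -/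
noncomputable def KPack.nil : KPack a M [] where
  T := M
  D := 0
  D_gr := fun g x hx => (M.gr g).zero_mem
  D_D := fun x => rfl
  C := baseC M
  C_hom := baseC_hom M
  D_C := fun j x hx => Submodule.zero_mem _
  D_zero := fun x hx => rfl
  htpy := fun y hy => absurd hy List.not_mem_nil
  φ := LinearMap.id
  φ_gr := fun g x hx => hx
  φ_inj := Function.injective_id
  φ_range := LinearMap.range_id
  D_one := fun x hx => ⟨0, Submodule.zero_mem _, rfl⟩
  van := by
    intro j q k hv
    cases j with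
    | zero =>
      rw [Nat.cast_zero, sub_zero] at hv
      exact van_top a M q k hv
    | succ j =>
      exact van_of_subsingleton a _
        (show Subsingleton ↥(⊥ : Submodule R M.carrier) from inferInstance) q k

end Base

section Step

/-- the previous term -/
def prevC {N : Type u} [AddCommGroup N] [Module R N] (C : ℕ → Submodule R N) :
    ℕ → Submodule R N
  | 0 => ⊥
  | j + 1 => C j

variable {a : HomogeneousIdeal 𝒜} {M : GrLC.GMod.{u} 𝒜} {ys : List R} (K : KPack a M ys)

lemma prevC_hom : ∀ j, (prevC K.C j).IsHomogeneous K.T.gr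
  | 0 => bot_isHomogeneous K.T.gr
  | j + 1 => K.C_hom j

lemma D_prevC : ∀ j x, x ∈ K.C j → K.D x ∈ prevC K.C j
  | 0, x, hx => by
    rw [K.D_zero x hx]
    exact Submodule.zero_mem _
  | j + 1, x, hx => K.D_C j x hx

lemma h_prevC (h : K.T.carrier →ₗ[R] K.T.carrier)
    (hh : ∀ j x, x ∈ K.C j → h x ∈ K.C (j + 1)) : ∀ j x, x ∈ prevC K.C j → h x ∈ K.C j
  | 0, x, hx => by
    have hx0 : x = 0 := (Submodule.mem_bot R).mp hx
    rw [hx0, map_zero]
    exact Submodule.zero_mem _
  | j + 1, x, hx => hh j x hx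

lemma van_prevC (q : ℕ) (k : ℤ) : ∀ j : ℕ, Van a M q (k - j) →
    Van a (subGMod K.T (prevC K.C j) (prevC_hom K j)) q (k - 1)
  | 0, _ => van_of_subsingleton a _
      (show Subsingleton ↥(⊥ : Submodule R K.T.carrier) from inferInstance) q (k - 1)
  | j + 1, hv => by
    apply K.van j q (k - 1)
    have h1 : k - 1 - (j : ℤ) = k - ((j + 1 : ℕ) : ℤ) := by push_cast; ring
    rw [h1]
    exact hv

/-- adding one more element -/
noncomputable def KPack.cons (y : R) (hy : y ∈ 𝒜 1) : KPack a M (y :: ys) where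
  T := coneGMod K.T
  D := coneD K.T K.D y
  D_gr := isGrHom_coneD K.T K.D K.D_gr y hy
  D_D := coneD_coneD K.T K.D K.D_D y
  C := fun j => coneSub K.T (K.C j) (prevC K.C j)
  C_hom := fun j => coneSub_isHomogeneous K.T _ _ (K.C_hom j) (prevC_hom K j)
  D_C := by
    intro j z hz
    rw [mem_coneSub] at hz ⊢
    rw [cfst_coneD, csnd_coneD]
    exact ⟨add_mem (K.D_C j _ hz.1) (Submodule.smul_mem _ _ hz.2),
      neg_mem (D_prevC K j _ hz.2)⟩
  D_zero := by
    intro z hz
    rw [mem_coneSub] at hz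
    have h2 : csnd K.T z = 0 := (Submodule.mem_bot R).mp hz.2
    apply cone_ext
    · rw [cfst_coneD, K.D_zero _ hz.1, h2, smul_zero, add_zero, map_zero]
    · rw [csnd_coneD, h2, map_zero, neg_zero, map_zero]
  htpy := by
    intro y' hy'
    rcases List.mem_cons.mp hy' with rfl | hy'
    · refine ⟨coneS K.T, ?_, coneS_htpy K.T K.D y'⟩
      intro j z hz
      rw [mem_coneSub] at hz ⊢
      rw [cfst_coneS, csnd_coneS]
      exact ⟨Submodule.zero_mem _, hz.1⟩
    · obtain ⟨h, hh1, hh2⟩ := K.htpy y' hy'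
      refine ⟨coneH K.T h, ?_, coneH_htpy K.T K.D h y y' hh2⟩
      intro j z hz
      rw [mem_coneSub] at hz ⊢
      rw [cfst_coneH, csnd_coneH]
      exact ⟨hh1 j _ hz.1, neg_mem (h_prevC K h hh1 j _ hz.2)⟩
  φ := cinl K.T ∘ₗ K.φ
  φ_gr := by
    intro g m hm
    rw [LinearMap.comp_apply, mem_coneGMod_gr, cfst_cinl, csnd_cinl]
    exact ⟨K.φ_gr g m hm, (K.T.gr (g - 1)).zero_mem⟩
  φ_inj := by
    intro m m' hmm'
    apply K.φ_inj
    have := congrArg (cfst K.T) hmm'
    simpa only [LinearMap.comp_apply, cfst_cinl] using this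
  φ_range := by
    ext z
    rw [mem_coneSub]
    constructor
    · rintro ⟨m, rfl⟩
      rw [LinearMap.comp_apply, cfst_cinl, csnd_cinl, ← K.φ_range]
      exact ⟨⟨m, rfl⟩, Submodule.zero_mem _⟩
    · rintro ⟨h1, h2⟩
      rw [← K.φ_range] at h1
      obtain ⟨m, hm⟩ := h1
      refine ⟨m, ?_⟩
      rw [LinearMap.comp_apply, hm]
      exact cinl_eq K.T z ((Submodule.mem_bot R).mp h2)
  D_one := by
    intro z hz
    rw [mem_coneSub] at hz
    obtain ⟨m₁, hm₁, hm₁'⟩ := K.D_one _ hz.1
    have h2 : csnd K.T z ∈ LinearMap.range K.φ := by rw [K.φ_range]; exact hz.2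
    obtain ⟨m₂, hm₂⟩ := h2
    have hle : Ideal.span {y' | y' ∈ ys} ≤ Ideal.span {y' | y' ∈ y :: ys} :=
      Ideal.span_mono (fun y' hy' => List.mem_cons_of_mem y hy')
    refine ⟨m₁ + y • m₂, add_mem (Submodule.smul_mono_left hle hm₁)
      (Submodule.smul_mem_smul (Ideal.subset_span List.mem_cons_self) Submodule.mem_top), ?_⟩
    apply cone_ext
    · rw [LinearMap.comp_apply, cfst_cinl, cfst_coneD, map_add, map_smul, hm₁', hm₂]
    · rw [LinearMap.comp_apply, csnd_cinl, csnd_coneD, K.D_zero _ hz.2, neg_zero]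
  van := by
    intro j q k hv
    exact van_coneSub a K.T (K.C j) (prevC K.C j) (K.C_hom j) (prevC_hom K j) q k
      (K.van j q k hv) (van_prevC K q k j hv)

end Step

/-- existence of Koszul packages -/
theorem nonempty_kpack (a : HomogeneousIdeal 𝒜) (M : GrLC.GMod.{u} 𝒜) :
    ∀ ys : List R, (∀ y ∈ ys, y ∈ 𝒜 1) → Nonempty (KPack a M ys)
  | [], _ => ⟨KPack.nil a M⟩
  | y :: ys, h => by
    obtain ⟨K⟩ := nonempty_kpack a M ys (fun y' hy' => h y' (List.mem_cons_of_mem _ hy'))
    exact ⟨K.cons y (h y List.mem_cons_self)⟩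

end Groth.Agent.Lib.Helper6.CMReg
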