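import Mathlib
import Groth.Prelude.Def_GrLC
import Groth.Prelude.Def_Wider
import Groth.Agent.Lib.Helper9.GrLC.GrH2
import Groth.Agent.Lib.Helper9.GrLC.Ess
import Groth.Agent.Lib.Helper6.CMReg.CRa
import Groth.Agent.Lib.Helper6.CMReg.CRb
import Groth.Agent.Lib.Helper6.CMReg.CRc
import Groth.Agent.Lib.Helper6.CMReg.CRd
import Groth.Agent.Lib.Helper6.CMReg.CRe

set_option autoImplicit false
set_option linter.unusedSectionVars false
set_option linter.unusedVariables false
set_option linter.unusedSimpArgs false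
set_option linter.style.haveILetI false
set_option maxHeartbeats 400000

/-!
# The Koszul chase: vanishing of graded pieces of local cohomology propagates
-/

universe u

namespace Groth.Agent.Lib.Helper6.CMReg

open CategoryTheory DirectSum Groth.Agent.Helper9.GrLCLib Groth.Agent.Helper8.LC

variable {R : Type u} [CommRing R] [IsNoetherianRing R] {𝒜 : ℤ → AddSubgroup R} [GradedRing 𝒜]
variable {a : HomogeneousIdeal 𝒜} {M : GrLC.GMod.{u} 𝒜} {ys : List R} (K : KPack a M ys)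

namespace KPack

/-- boundaries -/
def B (j : ℕ) : Submodule R K.T.carrier := (K.C (j + 1)).map K.D

/-- cycles -/
def Z (j : ℕ) : Submodule R K.T.carrier := K.C j ⊓ LinearMap.ker K.D

lemma B_hom (j : ℕ) : (K.B j).IsHomogeneous K.T.gr :=
  map_isHomogeneous K.T.gr K.T.gr K.D_gr (K.C_hom (j + 1))

lemma Z_hom (j : ℕ) : (K.Z j).IsHomogeneous K.T.gr :=
  inf_isHomogeneous K.T.gr (K.C_hom j) (ker_isHomogeneous K.T.gr K.T.gr K.D_gr)

lemma B_le_Z (j : ℕ) : K.B j ≤ K.Z j := by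
  rintro _ ⟨x, hx, rfl⟩
  exact ⟨K.D_C j x hx, K.D_D x⟩

lemma Z_le_C (j : ℕ) : K.Z j ≤ K.C j := inf_le_left

lemma C_zero_le_Z : K.C 0 ≤ K.Z 0 := fun x hx => ⟨hx, K.D_zero x hx⟩

lemma B_zero_le_C : K.B 0 ≤ K.C 0 := (K.B_le_Z 0).trans (K.Z_le_C 0)

/-- the homology is killed by the ideal generated by the list -/
lemma smul_mem_B (ha : a.toIdeal = Ideal.span {y | y ∈ ys}) (j : ℕ) (x : K.T.carrier)
    (hx : x ∈ K.Z j) (r : R) (hr : r ∈ a.toIdeal) : r • x ∈ K.B j := by
  rw [ha] at hr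
  induction hr using Submodule.span_induction with
  | mem y hy =>
    obtain ⟨h, hh1, hh2⟩ := K.htpy y hy
    have h1 := hh2 x
    rw [LinearMap.mem_ker.mp hx.2, map_zero, add_zero] at h1
    rw [← h1]
    exact ⟨h x, hh1 j x hx.1, rfl⟩
  | zero =>
    rw [zero_smul]
    exact Submodule.zero_mem _
  | add r s _ _ ihr ihs =>
    rw [add_smul]
    exact add_mem ihr ihs
  | smul c r _ ih =>
    rw [smul_eq_mul, mul_smul]
    exact Submodule.smul_mem _ c ih

lemma smul_mem_B_zero (ha : a.toIdeal = Ideal.span {y | y ∈ ys}) (x : K.T.carrier)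
    (hx : x ∈ K.C 0) (r : R) (hr : r ∈ a.toIdeal) : r • x ∈ K.B 0 :=
  K.smul_mem_B ha 0 x (K.C_zero_le_Z hx) r hr

include K in
lemma van_of_length_lt (ha : a.toIdeal = Ideal.span {y | y ∈ ys}) (X : GrLC.GMod.{u} 𝒜) (q : ℕ)
    (hq : ys.length < q) (k : ℤ) : Van a X q k := by
  classical
  refine van_of_card_lt a ys.toFinset ?_ X q (lt_of_le_of_lt (List.toFinset_card_le ys) hq) k
  rw [ha, List.coe_toFinset]

/-- one step of the chase -/
lemma van_B_step (ha : a.toIdeal = Ideal.span {y | y ∈ ys}) (i : ℕ) (k : ℤ)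
    (hyp : ∀ j : ℕ, 1 ≤ j → Van a M (i + j - 1) (k - j)) (j : ℕ)
    (hT : Van a (subGMod K.T (K.B (j + 1)) (K.B_hom (j + 1))) (i + (j + 1)) k) :
    Van a (subGMod K.T (K.B j) (K.B_hom j)) (i + j) k := by
  have hZ : Van a (subGMod K.T (K.Z (j + 1)) (K.Z_hom (j + 1))) (i + j + 1) k :=
    van_sub_of_torsion a K.T (K.B (j + 1)) (K.Z (j + 1)) (K.B_hom (j + 1)) (K.Z_hom (j + 1))
      (K.B_le_Z (j + 1)) (K.smul_mem_B ha (j + 1)) (i + j + 1) (by omega) k hT
  have hC : Van a (subGMod K.T (K.C (j + 1)) (K.C_hom (j + 1))) (i + j) k := by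
    apply K.van (j + 1) (i + j) k
    have h1 := hyp (j + 1) (by omega)
    have h2 : i + (j + 1) - 1 = i + j := by omega
    rw [h2] at h1
    exact h1
  exact van_map a K.T K.T K.D K.D_gr (K.C (j + 1)) (K.C_hom (j + 1)) (K.Z_hom (j + 1))
    (K.B_hom j) (i + j) k hC hZ

/-- the chase -/
theorem van_B (ha : a.toIdeal = Ideal.span {y | y ∈ ys}) (i : ℕ) (k : ℤ)
    (hyp : ∀ j : ℕ, 1 ≤ j → Van a M (i + j - 1) (k - j)) (j : ℕ) :
    Van a (subGMod K.T (K.B j) (K.B_hom j)) (i + j) k := by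
  have key : ∀ m j : ℕ, ys.length < i + j + m →
      Van a (subGMod K.T (K.B j) (K.B_hom j)) (i + j) k := by
    intro m
    induction m with
    | zero =>
      intro j hj
      exact K.van_of_length_lt ha _ (i + j) (by omega) k
    | succ m ih =>
      intro j hj
      exact K.van_B_step ha i k hyp j (ih (j + 1) (by omega))
  exact key (ys.length + 1) j (by omega)

/-- transfer of vanishing from the degree zero term to the module -/
lemma van_of_van_C_zero (q : ℕ) (k : ℤ)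
    (h : Van a (subGMod K.T (K.C 0) (K.C_hom 0)) q k) : Van a M q k := by
  have hmem : ∀ x, K.φ x ∈ K.C 0 := fun x => by rw [← K.φ_range]; exact ⟨x, rfl⟩
  let g : M.carrier →ₗ[R] (subGMod K.T (K.C 0) (K.C_hom 0)).carrier :=
    subLift K.T (K.C 0) (K.C_hom 0) K.φ hmem
  have hg : ∀ x, subMap K.T (K.C 0) (K.C_hom 0) (g x) = K.φ x := fun x => rfl
  have hb : Function.Bijective g := by
    constructor
    · intro x x' hxx'
      apply K.φ_inj
      rw [← hg, ← hg, hxx']
    · intro z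
      have hz : subMap K.T (K.C 0) (K.C_hom 0) z ∈ LinearMap.range K.φ := by
        rw [K.φ_range]
        exact subMap_mem K.T (K.C 0) (K.C_hom 0) z
      obtain ⟨x, hx⟩ := hz
      refine ⟨x, ?_⟩
      apply subMap_injective K.T (K.C 0) (K.C_hom 0)
      rw [hg, hx]
  refine van_of_retract a (subGMod K.T (K.C 0) (K.C_hom 0)) M
    (LinearEquiv.ofBijective g hb).symm.toLinearMap g ?_ 0 ?_ q k ?_
  · apply LinearMap.ext
    intro x
    exact (LinearEquiv.ofBijective g hb).symm_apply_apply x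
  · intro d x hx
    rw [add_zero]
    apply (mem_subGMod_gr K.T (K.C 0) (K.C_hom 0) d _).mpr
    rw [hg]
    exact K.φ_gr d x hx
  · rw [add_zero]
    exact h

include K in
/-- **propagation of vanishing** -/
theorem van_of_hyp (ha : a.toIdeal = Ideal.span {y | y ∈ ys}) (i : ℕ) (hi : 1 ≤ i) (k : ℤ)
    (hyp : ∀ j : ℕ, 1 ≤ j → Van a M (i + j - 1) (k - j)) : Van a M i k := by
  apply K.van_of_van_C_zero i k
  exact van_sub_of_torsion a K.T (K.B 0) (K.C 0) (K.B_hom 0) (K.C_hom 0) K.B_zero_le_C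
    (K.smul_mem_B_zero ha) i hi k (K.van_B ha i k hyp 0)

include K in
/-- **generation**: homogeneous elements of degree `k` lie in `a M` -/
theorem mem_smul_top_of_hyp (ha : a.toIdeal = Ideal.span {y | y ∈ ys}) (k : ℤ)
    (hyp : ∀ j : ℕ, Van a M j (k - j)) (m : M.carrier) (hm : m ∈ M.gr k) :
    m ∈ a.toIdeal • (⊤ : Submodule R M.carrier) := by
  have h1 : Van a (subGMod K.T (K.B 0) (K.B_hom 0)) 1 k := by
    refine K.van_B ha 1 k (fun j hj => ?_) 0
    have h2 : 1 + j - 1 = j := by omega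
    rw [h2]
    exact hyp j
  have h2 : Van a (subGMod K.T (K.C 0) (K.C_hom 0)) 0 k := K.van 0 0 k (hyp 0)
  have hmem : K.φ m ∈ K.C 0 := by rw [← K.φ_range]; exact ⟨m, rfl⟩
  have h3 : K.φ m ∈ K.B 0 :=
    mem_of_van a K.T (K.B 0) (K.C 0) (K.B_hom 0) (K.C_hom 0) K.B_zero_le_C
      (K.smul_mem_B_zero ha) k h2 h1 (K.φ m) hmem (K.φ_gr k m hm)
  obtain ⟨x, hx, hxm⟩ := h3
  obtain ⟨m', hm', hm'x⟩ := K.D_one x hx
  have h4 : m' = m := K.φ_inj (hm'x.trans hxm)
  rw [← h4, ha]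
  exact hm'

end KPack

end Groth.Agent.Lib.Helper6.CMReg
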