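import Mathlib
import Groth.Prelude.Def_GrLC
import Groth.Prelude.Def_Wider
import Groth.Agent.Lib.Helper9.GrLC.GrH2
import Groth.Agent.Lib.Helper9.GrLC.Ess
import Groth.Agent.Lib.Helper9.GrLC.Pos
import Groth.Agent.Lib.Helper6.CMReg.CRa
import Groth.Agent.Lib.Helper6.CMReg.CRb
import Groth.Agent.Lib.Helper6.CMReg.CRc
import Groth.Agent.Lib.Helper6.CMReg.CRd
import Groth.Agent.Lib.Helper6.CMReg.CRe
import Groth.Agent.Lib.Helper6.CMReg.CRf

set_option autoImplicit false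
set_option linter.unusedSectionVars false
set_option linter.unusedVariables false
set_option linter.unusedSimpArgs false
set_option linter.style.haveILetI false
set_option maxHeartbeats 400000

/-!
# Castelnuovo–Mumford regularity: propagation of vanishing and generation in degrees `≤ reg`
-/

universe u

namespace Groth.Agent.Lib.Helper6.CMReg

open CategoryTheory DirectSum Groth.Agent.Helper9.GrLCLib Groth.Agent.Helper8.LC

variable {R : Type u} [CommRing R] [IsNoetherianRing R] {𝒜 : ℤ → AddSubgroup R} [GradedRing 𝒜]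
variable (a : HomogeneousIdeal 𝒜)

lemma exists_list_gens (hhom : a.toIdeal = Ideal.span ((𝒜 1 : AddSubgroup R) : Set R)) :
    ∃ ys : List R, (∀ y ∈ ys, y ∈ 𝒜 1) ∧ a.toIdeal = Ideal.span {y | y ∈ ys} := by
  have hfg : (Submodule.span R ((𝒜 1 : AddSubgroup R) : Set R)).FG := IsNoetherian.noetherian _
  obtain ⟨s', hs's, hss'⟩ := (Submodule.fg_span_iff_fg_span_finset_subset _).mp hfg
  refine ⟨s'.toList, fun y hy => hs's (Finset.mem_toList.mp hy), ?_⟩
  rw [hhom]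
  have h1 : {y | y ∈ s'.toList} = (s' : Set R) := by
    ext y
    simp
  rw [h1]
  exact hss'

/-- **propagation of vanishing** (Mumford) -/
theorem main_propagate (hhom : a.toIdeal = Ideal.span ((𝒜 1 : AddSubgroup R) : Set R))
    (X : GrLC.GMod.{u} 𝒜) (r : ℤ) (l : ℕ) (hl : 1 ≤ l)
    (hvan : ∀ i : ℕ, l ≤ i → Van a X i (r + 1 - i)) (i : ℕ) (hi : l ≤ i) (s : ℤ) (hs : r < s) :
    Van a X i (s - i) := by
  obtain ⟨ys, hys1, hys2⟩ := exists_list_gens a hhom
  obtain ⟨K⟩ := nonempty_kpack a X ys hys1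
  obtain ⟨t, rfl⟩ : ∃ t : ℕ, s = r + 1 + t := ⟨(s - r - 1).toNat, by omega⟩
  clear hs
  induction t generalizing i with
  | zero =>
    have h1 := hvan i hi
    rw [Nat.cast_zero, add_zero]
    exact h1
  | succ t ih =>
    apply K.van_of_hyp hys2 i (by omega) _
    intro j hj
    have h1 := ih (i + j - 1) (by omega)
    have h2 : r + 1 + (t : ℤ) - ((i + j - 1 : ℕ) : ℤ) = r + 1 + ((t + 1 : ℕ) : ℤ) - i - j := by
      omega
    rw [h2] at h1
    exact h1

section Unbundled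

variable {M : Type u} [AddCommGroup M] [Module R M] (ℳ : ℤ → AddSubgroup M)
  [DirectSum.Decomposition ℳ] [SetLike.GradedSMul 𝒜 ℳ]

lemma van_iff_hcomp (E : GrLC.StarInjRes 𝒜 ℳ) (i : ℕ) (g : ℤ) :
    Van a (GrLC.GMod.of 𝒜 M ℳ) i g ↔ ∀ x ∈ E.Hcomp a i g, x = 0 := by
  obtain ⟨Θ, hΘ⟩ := exists_theta_LCgr 𝒜 ℳ a E i
  constructor
  · intro h x hx
    have h1 : Θ x ∈ LCgr 𝒜 ℳ a.toIdeal i g := (hΘ g x).mp hx
    have h2 : Θ x = 0 := h (Θ x) h1
    exact Θ.map_eq_zero_iff.mp h2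
  · intro h z hz
    have h1 : Θ.symm z ∈ E.Hcomp a i g := by
      apply (hΘ g _).mpr
      rw [LinearEquiv.apply_symm_apply]
      exact hz
    have h2 := h _ h1
    have h3 : Θ (Θ.symm z) = z := Θ.apply_symm_apply z
    rw [h2, map_zero] at h3
    exact h3.symm

lemma hcomp_eq_bot_iff (E : GrLC.StarInjRes 𝒜 ℳ) (i : ℕ) (g : ℤ) :
    E.Hcomp a i g = ⊥ ↔ ∀ x ∈ E.Hcomp a i g, x = 0 := by
  rw [Submodule.eq_bot_iff]

/-- the statement of S13228 -/
theorem main_13228 (hhom : a.toIdeal = Ideal.span ((𝒜 1 : AddSubgroup R) : Set R))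
    (E : GrLC.StarInjRes 𝒜 ℳ) (r : ℤ) (l : ℕ) (hl : 1 ≤ l)
    (hvan : ∀ i : ℕ, l ≤ i → E.Hcomp a i (r + 1 - i) = ⊥) (i : ℕ) (hi : l ≤ i) (s : ℤ)
    (hs : r < s) : E.Hcomp a i (s - i) = ⊥ := by
  rw [hcomp_eq_bot_iff, ← van_iff_hcomp]
  refine main_propagate a hhom (GrLC.GMod.of 𝒜 M ℳ) r l hl (fun i' hi' => ?_) i hi s hs
  rw [van_iff_hcomp a ℳ E, ← hcomp_eq_bot_iff]
  exact hvan i' hi'

/-- components of elements of `a M` -/
lemma proj_mem_of_mem_smul_top (hhom : a.toIdeal = Ideal.span ((𝒜 1 : AddSubgroup R) : Set R))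
    (N : Submodule R M) (k : ℤ) (hN : ∀ x ∈ ℳ (k - 1), x ∈ N) (m : M)
    (hm : m ∈ a.toIdeal • (⊤ : Submodule R M)) : proj ℳ k m ∈ N := by
  have key : ∀ r ∈ a.toIdeal, ∀ n : M, proj ℳ k (r • n) ∈ N := by
    intro r hr
    rw [hhom] at hr
    induction hr using Submodule.span_induction with
    | mem y hy =>
      intro n
      rw [proj_smul_of_mem' 𝒜 ℳ hy n k]
      exact N.smul_mem y (hN _ (proj_mem ℳ (k - 1) n))
    | zero =>
      intro n
      rw [zero_smul, map_zero]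
      exact N.zero_mem
    | add r s _ _ ihr ihs =>
      intro n
      rw [add_smul, map_add]
      exact N.add_mem (ihr n) (ihs n)
    | smul c r _ ih =>
      intro n
      rw [smul_eq_mul, mul_comm, mul_smul]
      exact ih (c • n)
  refine Submodule.smul_induction_on hm (fun r hr n _ => key r hr n) (fun x y hx hy => ?_)
  rw [map_add]
  exact N.add_mem hx hy

/-- vanishing above the regularity -/
lemma hcomp_van_of_not_le (E : GrLC.StarInjRes 𝒜 ℳ) (k : ℤ)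
    (hk : ¬ (((k : WithTop ℤ) : WithBot (WithTop ℤ)) ≤
      ⨆ i : ℕ, GrLC.endDeg (E.Hgr a i) + ((i : ℤ) : WithTop ℤ))) (j : ℕ) :
    ∀ x ∈ E.Hcomp a j (k - j), x = 0 := by
  by_contra hcon
  push Not at hcon
  obtain ⟨x, hx, hx0⟩ := hcon
  apply hk
  have hne : E.Hgr a j (k - j) ≠ ⊥ := by
    intro hbot
    have hx' : x ∈ E.Hgr a j (k - j) := hx
    rw [hbot, AddSubgroup.mem_bot] at hx'
    exact hx0 hx'
  have h1 : (((k - j : ℤ) : WithTop ℤ) : WithBot (WithTop ℤ)) ≤ GrLC.endDeg (E.Hgr a j) := by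
    unfold GrLC.endDeg
    exact le_iSup₂ (f := fun (n : ℤ) (_ : E.Hgr a j n ≠ ⊥) =>
      ((n : WithTop ℤ) : WithBot (WithTop ℤ))) (k - j) hne
  have h2 : (((k - j : ℤ) : WithTop ℤ) : WithBot (WithTop ℤ)) +
      ((((j : ℤ) : WithTop ℤ)) : WithBot (WithTop ℤ)) ≤
      GrLC.endDeg (E.Hgr a j) + ((((j : ℤ) : WithTop ℤ)) : WithBot (WithTop ℤ)) :=
    add_le_add h1 le_rfl
  have h3 := le_trans h2 (le_iSup (fun i : ℕ => GrLC.endDeg (E.Hgr a i) +
    ((((i : ℤ) : WithTop ℤ)) : WithBot (WithTop ℤ))) j)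
  rw [← WithBot.coe_add, ← WithTop.coe_add, sub_add_cancel] at h3
  exact h3

/-- the statement of S13238 -/
theorem main_13238 (hpos : ∀ n : ℤ, n < 0 → 𝒜 n = ⊥)
    (hhom : a.toIdeal = Ideal.span ((𝒜 1 : AddSubgroup R) : Set R)) [Module.Finite R M]
    (E : GrLC.StarInjRes 𝒜 ℳ) :
    Submodule.span R (⋃ (n : ℤ) (_ : ((n : WithTop ℤ) : WithBot (WithTop ℤ)) ≤
      ⨆ i : ℕ, GrLC.endDeg (E.Hgr a i) + ((i : ℤ) : WithTop ℤ)), (ℳ n : Set M)) = ⊤ := by
  obtain ⟨ys, hys1, hys2⟩ := exists_list_gens a hhom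
  obtain ⟨K⟩ := nonempty_kpack a (GrLC.GMod.of 𝒜 M ℳ) ys hys1
  obtain ⟨k₀, hk₀⟩ := Pos.exists_top_le_geS 𝒜 ℳ hpos
  set N : Submodule R M := Submodule.span R (⋃ (n : ℤ) (_ : ((n : WithTop ℤ) :
    WithBot (WithTop ℤ)) ≤ ⨆ i : ℕ, GrLC.endDeg (E.Hgr a i) + ((i : ℤ) : WithTop ℤ)),
    (ℳ n : Set M)) with hN
  have claim : ∀ t : ℕ, ∀ k : ℤ, k < k₀ + t → ∀ x ∈ ℳ k, x ∈ N := by
    intro t
    induction t with
    | zero =>
      intro k hk x hx
      have h1 : x ∈ Pos.geS 𝒜 ℳ hpos k₀ := hk₀ Submodule.mem_top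
      have h2 : proj ℳ k x = 0 := h1 k (by simpa using hk)
      rw [proj_of_mem_same ℳ hx] at h2
      rw [h2]
      exact N.zero_mem
    | succ t ih =>
      intro k hk x hx
      by_cases hk' : k < k₀ + t
      · exact ih k hk' x hx
      · by_cases hreg : ((k : WithTop ℤ) : WithBot (WithTop ℤ)) ≤
          ⨆ i : ℕ, GrLC.endDeg (E.Hgr a i) + ((i : ℤ) : WithTop ℤ)
        · exact Submodule.subset_span (Set.mem_iUnion₂.mpr ⟨k, hreg, hx⟩)
        · have hyp : ∀ j : ℕ, Van a (GrLC.GMod.of 𝒜 M ℳ) j (k - j) := by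
            intro j
            rw [van_iff_hcomp a ℳ E]
            exact hcomp_van_of_not_le a ℳ E k hreg j
          have h1 : x ∈ a.toIdeal • (⊤ : Submodule R M) :=
            K.mem_smul_top_of_hyp hys2 k hyp x hx
          have h2 := proj_mem_of_mem_smul_top a ℳ hhom N k
            (fun x' hx' => ih (k - 1) (by push_cast at hk ⊢; omega) x' hx') x h1
          rw [proj_of_mem_same ℳ hx] at h2
          exact h2
  rw [eq_top_iff]
  intro m _
  classical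
  rw [← DirectSum.sum_support_decompose ℳ m]
  refine N.sum_mem (fun k _ => ?_)
  exact claim (k - k₀ + 1).toNat k (by omega) _ (decompose ℳ m k).2

end Unbundled

end Groth.Agent.Lib.Helper6.CMReg
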