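import Mathlib
import Groth.Prelude.Def_GrLC
import Groth.Prelude.Def_Wider
import Groth.Agent.Lib.Helper9.GrLC.GrH2
import Groth.Agent.Lib.Helper9.GrLC.Van
import Groth.Agent.Lib.Helper9.GrLC.Reg
import Groth.Agent.Lib.Helper6.CMReg.CRg

set_option autoImplicit false
set_option linter.unusedSectionVars false
set_option linter.unusedVariables false
set_option linter.unusedSimpArgs false
set_option linter.style.haveILetI false
set_option maxHeartbeats 400000

/-!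
# Regularity and quotients by quasi-regular linear forms
-/

universe u

namespace Groth.Agent.Lib.Helper6.CMReg

open CategoryTheory DirectSum Groth.Agent.Helper9.GrLCLib Groth.Agent.Helper8.LC

variable {R : Type u} [CommRing R] [IsNoetherianRing R] (𝒜 : ℤ → AddSubgroup R) [GradedRing 𝒜]
variable (a : HomogeneousIdeal 𝒜)
variable (X Y : GrLC.GMod.{u} 𝒜) (x : R) (hx : x ∈ 𝒜 1)

section Quasi

variable (hK : LocCoh.IsPowerTorsion a.toIdeal (Reg.KX 𝒜 X x hx).carrier)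

include hK in
lemma van_KX (q : ℕ) (hq : 1 ≤ q) (k : ℤ) : Van a (Reg.KX 𝒜 X x hx) q k := by
  intro z _
  haveI := subsingleton_of_isPowerTorsion a.toIdeal q (by omega) _ hK
  exact Subsingleton.elim _ _

include hK in
lemma van_XB_of_van (q : ℕ) (k : ℤ) (h : Van a X q k) : Van a (Reg.XB 𝒜 X x hx) q k :=
  van_right a (Reg.KX 𝒜 X x hx) X (Reg.XB 𝒜 X x hx) (Reg.incK 𝒜 X x hx) (Reg.prB 𝒜 X x hx)
    (Reg.prB_comp_incK 𝒜 X x hx) (Reg.ses1_shortExact 𝒜 X x hx)
    (isGrHom_subMap X _ _) (isGrHom_quotMap X _ _) q k h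
    (van_KX 𝒜 a X x hx hK (q + 1) (by omega) k)

variable (π : X.carrier →ₗ[R] Y.carrier) (hπ : Function.Surjective π)
  (hπg : GrLC.IsGrHom X.gr Y.gr π)
  (hker : LinearMap.ker π = LinearMap.range (x • (LinearMap.id : X.carrier →ₗ[R] X.carrier)))

include hK hπ hπg hker in
lemma van_Y (q : ℕ) (k : ℤ) (h1 : Van a X q k) (h2 : Van a X (q + 1) (k - 1)) : Van a Y q k :=
  van_right a (shiftGMod (Reg.XB 𝒜 X x hx) 1) X Y (Reg.mulB 𝒜 X x hx) π
    (Reg.pi_comp_mulB 𝒜 X Y x hx π hker) (Reg.ses2_shortExact 𝒜 X Y x hx π hπ hker)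
    (Reg.isGrHom_mulB 𝒜 X x hx) hπg q k h1
    (van_shift a (Reg.XB 𝒜 X x hx) 1 (q + 1) k (van_XB_of_van 𝒜 a X x hx hK (q + 1) (k - 1) h2))

include hK hπ hπg hker in
/-- regularity passes to the quotient -/
theorem reg_quot (hhom : a.toIdeal = Ideal.span ((𝒜 1 : AddSubgroup R) : Set R)) (d : ℤ)
    (h0 : ∀ k : ℤ, d < k → Van a X 0 k) (hW : ∀ i : ℕ, 0 < i → Van a X i (d - i + 1)) :
    (∀ k : ℤ, d < k → Van a Y 0 k) ∧ (∀ i : ℕ, 0 < i → Van a Y i (d - i + 1)) := by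
  constructor
  · intro k hk
    apply van_Y 𝒜 a X Y x hx hK π hπ hπg hker 0 k (h0 k hk)
    have h1 := main_propagate a hhom X d 1 le_rfl (fun i hi => by
      have h2 := hW i (by omega)
      have h3 : d - (i : ℤ) + 1 = d + 1 - i := by ring
      rw [h3] at h2
      exact h2) 1 le_rfl k hk
    rw [Nat.cast_one] at h1
    exact h1
  · intro i hi
    apply van_Y 𝒜 a X Y x hx hK π hπ hπg hker i _ (hW i hi)
    have h1 := hW (i + 1) (by omega)
    have h2 : d - ((i + 1 : ℕ) : ℤ) + 1 = d - (i : ℤ) + 1 - 1 := by push_cast; ring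
    rw [h2] at h1
    exact h1

include hK hπ hπg hker in
/-- multiplication by `x` is injective on high degree pieces -/
lemma smul_injective_of_van (q : ℕ) (k : ℤ) (hY : Van a Y q (k + 1))
    (z : LocCoh.H a.toIdeal (q + 1) X.carrier) (hz : z ∈ LCgr 𝒜 X.gr a.toIdeal (q + 1) k)
    (hxz : x • z = 0) : z = 0 := by
  -- the image in `X / ker x`
  have hz1 : ((localCohomology a.toIdeal (q + 1)).map (ModuleCat.ofHom (Reg.prB 𝒜 X x hx))) z ∈
      LCgr 𝒜 (Reg.XB 𝒜 X x hx).gr a.toIdeal (q + 1) k :=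
    Van.LCgr_map_zero 𝒜 X.gr (Reg.XB 𝒜 X x hx).gr a.toIdeal (q + 1) k (Reg.prB 𝒜 X x hx)
      (isGrHom_quotMap X _ _) z hz
  obtain ⟨z', hz'⟩ : ∃ z' : LocCoh.H a.toIdeal (q + 1) (shiftGMod (Reg.XB 𝒜 X x hx) 1).carrier,
      z' = ((localCohomology a.toIdeal (q + 1)).map (ModuleCat.ofHom (Reg.prB 𝒜 X x hx))) z := ⟨_, rfl⟩
  have hz'1 : z' ∈ LCgr 𝒜 (shiftGMod (Reg.XB 𝒜 X x hx) 1).gr a.toIdeal (q + 1) (k + 1) := by
    apply (Van.mem_LCgr_shift 𝒜 (Reg.XB 𝒜 X x hx) 1 a.toIdeal (q + 1) (k + 1) z').mpr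
    rw [add_sub_cancel_right, hz']
    exact hz1
  have hcomp : Reg.mulB 𝒜 X x hx ∘ₗ Reg.prB 𝒜 X x hx =
      x • (LinearMap.id : X.carrier →ₗ[R] X.carrier) := by
    apply LinearMap.ext
    intro m
    exact Reg.mulB_prB 𝒜 X x hx m
  have hz'2 : ((localCohomology a.toIdeal (q + 1)).map (ModuleCat.ofHom (Reg.mulB 𝒜 X x hx))) z' = 0 := by
    rw [hz']
    have h1 : ((localCohomology a.toIdeal (q + 1)).map (ModuleCat.ofHom
        (x • (LinearMap.id : X.carrier →ₗ[R] X.carrier)))) z =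
        ((localCohomology a.toIdeal (q + 1)).map (ModuleCat.ofHom (Reg.mulB 𝒜 X x hx)))
          (((localCohomology a.toIdeal (q + 1)).map (ModuleCat.ofHom (Reg.prB 𝒜 X x hx))) z) := by
      rw [← hcomp]
      exact Hmap_comp a.toIdeal (q + 1) (Reg.prB 𝒜 X x hx) (Reg.mulB 𝒜 X x hx) z
    have h2 : ((localCohomology a.toIdeal (q + 1)).map (ModuleCat.ofHom
        (x • (LinearMap.id : X.carrier →ₗ[R] X.carrier)))) z = x • z :=
      map_smul_id a.toIdeal (q + 1) (ModuleCat.of R X.carrier) x z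
    rw [h2, hxz] at h1
    exact h1.symm
  obtain ⟨w, hw, hwz⟩ := Van.exists_LCgr_of_map_f_eq_zero 𝒜
    (shiftGMod (Reg.XB 𝒜 X x hx) 1).gr X.gr Y.gr (Reg.mulB 𝒜 X x hx) π
    (Reg.pi_comp_mulB 𝒜 X Y x hx π hker) (Reg.ses2_shortExact 𝒜 X Y x hx π hπ hker)
    (Reg.isGrHom_mulB 𝒜 X x hx) hπg a q (k + 1) z' hz'1 hz'2
  have hw0 : w = 0 := hY w hw
  have hz'00 : z' = 0 := by
    rw [← hwz, hw0]
    exact map_zero _
  have hz'0 : ((localCohomology a.toIdeal (q + 1)).map (ModuleCat.ofHom (Reg.prB 𝒜 X x hx))) z = 0 :=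
    hz'.symm.trans hz'00
  obtain ⟨v, hv⟩ := (exact_f_g a.toIdeal (q + 1) (Reg.ses1_shortExact 𝒜 X x hx) z).mp hz'0
  haveI := subsingleton_of_isPowerTorsion a.toIdeal (q + 1) (Nat.succ_pos q) _ hK
  have hv0 : v = 0 := Subsingleton.elim _ _
  rw [← hv, hv0, map_zero]

include hK hπ hπg hker in
/-- regularity lifts from the quotient -/
theorem reg_of_quot (hhom : a.toIdeal = Ideal.span ((𝒜 1 : AddSubgroup R) : Set R))
    (hxa : x ∈ a.toIdeal) (d : ℤ)
    (hY0 : ∀ k : ℤ, d < k → Van a Y 0 k) (hYW : ∀ i : ℕ, 0 < i → Van a Y i (d - i + 1)) :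
    ∀ i : ℕ, 0 < i → Van a X i (d - i + 1) := by
  have hYs : ∀ (q : ℕ) (k : ℤ), d < k + q → Van a Y q k := by
    intro q k hqk
    cases q with
    | zero => exact hY0 k (by simpa using hqk)
    | succ q =>
      have h1 := main_propagate a hhom Y d 1 le_rfl (fun i hi => by
        have h2 := hYW i (by omega)
        have h3 : d - (i : ℤ) + 1 = d + 1 - i := by ring
        rw [h3] at h2
        exact h2) (q + 1) (by omega) (k + ((q + 1 : ℕ) : ℤ)) hqk
      rw [add_sub_cancel_right] at h1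
      exact h1
  have key : ∀ (q n : ℕ) (k : ℤ) (z : LocCoh.H a.toIdeal (q + 1) X.carrier),
      z ∈ LCgr 𝒜 X.gr a.toIdeal (q + 1) k → d < k + ((q + 1 : ℕ) : ℤ) → x ^ n • z = 0 → z = 0 := by
    intro q n
    induction n with
    | zero =>
      intro k z _ _ h
      rw [pow_zero, one_smul] at h
      exact h
    | succ n ih =>
      intro k z hz hk h
      rw [pow_succ, mul_smul] at h
      have h1 : x • z ∈ LCgr 𝒜 X.gr a.toIdeal (q + 1) (k + 1) :=
        Van.smul_mem_LCgr 𝒜 X.gr a.toIdeal (q + 1) k 1 hx z hz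
      have h2 : x • z = 0 := ih (k + 1) (x • z) h1 (by omega) h
      refine smul_injective_of_van 𝒜 a X Y x hx hK π hπ hπg hker q k
        (hYs q (k + 1) (by push_cast at hk ⊢; omega)) z hz h2
  intro i hi
  obtain ⟨q, rfl⟩ : ∃ q, i = q + 1 := ⟨i - 1, by omega⟩
  intro z hz
  obtain ⟨n, hn⟩ := isPowerTorsion a.toIdeal (q + 1) (ModuleCat.of R X.carrier) z
  exact key q n _ z hz (by push_cast; omega) (hn _ (Ideal.pow_mem_pow hxa n))

end Quasi

end Groth.Agent.Lib.Helper6.CMReg
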