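import Mathlib
import Groth.Prelude.Def_GrLC
import Groth.Prelude.Def_GrSyz
import Groth.Prelude.Def_Wider
import Groth.Agent.Lib.Helper9.GrLC.Trans
import Groth.Agent.Lib.Helper9.GrLC.Reg
import Groth.Agent.S15419
import Groth.Agent.Lib.Helper6.CMReg.CRh

set_option autoImplicit false
set_option linter.unusedSectionVars false
set_option linter.unusedVariables false
set_option linter.unusedSimpArgs false
set_option linter.style.haveILetI false
set_option maxHeartbeats 400000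

/-!
# `d`-regularity and quotients by quasi-regular linear forms over polynomial rings
-/

universe u

namespace Groth.Agent.Lib.Helper6.CMReg

open CategoryTheory DirectSum Groth.Agent.Helper9.GrLCLib Groth.Agent.Helper8.LC

section EndDeg

lemma endDeg_le_iff {H : Type u} [AddCommGroup H] (𝒳 : ℤ → AddSubgroup H) (d : ℤ) :
    GrLC.endDeg 𝒳 ≤ ((d : WithTop ℤ) : WithBot (WithTop ℤ)) ↔ ∀ k : ℤ, d < k → 𝒳 k = ⊥ := by
  constructor
  · intro h k hk
    by_contra hne
    have h1 : ((k : WithTop ℤ) : WithBot (WithTop ℤ)) ≤ GrLC.endDeg 𝒳 := by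
      unfold GrLC.endDeg
      exact le_iSup₂ (f := fun (n : ℤ) (_ : 𝒳 n ≠ ⊥) => ((n : WithTop ℤ) : WithBot (WithTop ℤ))) k hne
    have h2 := le_trans h1 h
    rw [WithBot.coe_le_coe, WithTop.coe_le_coe] at h2
    omega
  · intro h
    unfold GrLC.endDeg
    refine iSup₂_le (fun n hn => ?_)
    rw [WithBot.coe_le_coe, WithTop.coe_le_coe]
    by_contra hlt
    exact hn (h n (by omega))

end EndDeg

section Translate

variable {R : Type u} [CommRing R] [IsNoetherianRing R] {σ : Type u} [SetLike σ R]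
  [AddSubgroupClass σ R] (𝒜 : ℤ → σ) [GradedRing 𝒜]
variable {M : Type u} [AddCommGroup M] [Module R M] {τ : Type u} [SetLike τ M]
  [AddSubgroupClass τ M] (ℳ : ℤ → τ) [DirectSum.Decomposition ℳ] [SetLike.GradedSMul 𝒜 ℳ]

lemma van_toAG_iff (E : GrLC.StarInjRes 𝒜 ℳ) (a : HomogeneousIdeal 𝒜) (i : ℕ) (g : ℤ) :
    Van (Trans.idealToAG 𝒜 a) (GrLC.GMod.of (Trans.toAG 𝒜) M (Trans.toAG ℳ)) i g ↔
      ∀ x ∈ E.Hcomp a i g, x = 0 :=
  (van_iff_hcomp (Trans.idealToAG 𝒜 a) (Trans.toAG ℳ) (Trans.resToAG 𝒜 ℳ E) i g).trans Iff.rfl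

lemma van_toAG_iff_hcomp (E : GrLC.StarInjRes 𝒜 ℳ) (a : HomogeneousIdeal 𝒜) (i : ℕ) (g : ℤ) :
    Van (Trans.idealToAG 𝒜 a) (GrLC.GMod.of (Trans.toAG 𝒜) M (Trans.toAG ℳ)) i g ↔
      E.Hcomp a i g = ⊥ := by
  rw [van_toAG_iff 𝒜 ℳ E a i g, Submodule.eq_bot_iff]

lemma van_toAG_iff_hgr (E : GrLC.StarInjRes 𝒜 ℳ) (a : HomogeneousIdeal 𝒜) (i : ℕ) (g : ℤ) :
    Van (Trans.idealToAG 𝒜 a) (GrLC.GMod.of (Trans.toAG 𝒜) M (Trans.toAG ℳ)) i g ↔
      E.Hgr a i g = ⊥ := by
  rw [van_toAG_iff 𝒜 ℳ E a i g, AddSubgroup.eq_bot_iff_forall]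
  exact Iff.rfl

lemma endDeg_le_iff_van (E : GrLC.StarInjRes 𝒜 ℳ) (a : HomogeneousIdeal 𝒜) (i : ℕ) (d : ℤ) :
    GrLC.endDeg (E.Hgr a i) ≤ ((d : WithTop ℤ) : WithBot (WithTop ℤ)) ↔
      ∀ k : ℤ, d < k →
        Van (Trans.idealToAG 𝒜 a) (GrLC.GMod.of (Trans.toAG 𝒜) M (Trans.toAG ℳ)) i k := by
  rw [endDeg_le_iff]
  constructor
  · intro h k hk
    exact (van_toAG_iff_hgr 𝒜 ℳ E a i k).mpr (h k hk)
  · intro h k hk
    exact (van_toAG_iff_hgr 𝒜 ℳ E a i k).mp (h k hk)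

end Translate

section Poly

variable (k : Type u) [Field k] (σ : Type)

/-- the irrelevant ideal of the polynomial ring is generated by the linear forms -/
lemma span_pos_eq_span_one :
    Ideal.span (⋃ n ∈ Set.Ioi (0 : ℤ), ((Trans.toAG (GrSyz.stdGr k σ) n :
      AddSubgroup (MvPolynomial σ k)) : Set (MvPolynomial σ k))) =
    Ideal.span ((Trans.toAG (GrSyz.stdGr k σ) 1 : AddSubgroup (MvPolynomial σ k)) :
      Set (MvPolynomial σ k)) := by
  apply le_antisymm
  · rw [Ideal.span_le]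
    intro p hp
    simp only [Set.mem_iUnion, Set.mem_Ioi, SetLike.mem_coe, exists_prop] at hp
    obtain ⟨n, hn, hpn⟩ := hp
    have hpn' : p.IsWeightedHomogeneous (fun _ : σ => (1 : ℤ)) n := hpn
    rw [← MvPolynomial.support_sum_monomial_coeff p]
    refine Ideal.sum_mem _ (fun d hd => ?_)
    have hcoef : MvPolynomial.coeff d p ≠ 0 := MvPolynomial.mem_support_iff.mp hd
    have hw : Finsupp.weight (fun _ : σ => (1 : ℤ)) d = n := hpn' hcoef
    have hd0 : d ≠ 0 := by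
      intro h0
      rw [h0, map_zero] at hw
      omega
    obtain ⟨i, hi⟩ : ∃ i, d i ≠ 0 := by
      by_contra hcon
      push Not at hcon
      exact hd0 (Finsupp.ext hcon)
    have hle : Finsupp.single i 1 ≤ d := by
      rw [Finsupp.single_le_iff]
      omega
    have hdec : d = Finsupp.single i 1 + (d - Finsupp.single i 1) := (add_tsub_cancel_of_le hle).symm
    rw [hdec, MvPolynomial.monomial_single_add, pow_one]
    apply Ideal.mul_mem_right
    apply Ideal.subset_span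
    have hX : (MvPolynomial.X i : MvPolynomial σ k) ∈ GrSyz.stdGr k σ 1 :=
      MvPolynomial.isWeightedHomogeneous_X k (fun _ : σ => (1 : ℤ)) i
    exact hX
  · apply Ideal.span_mono
    intro p hp
    simp only [Set.mem_iUnion, Set.mem_Ioi, SetLike.mem_coe, exists_prop]
    exact ⟨1, one_pos, hp⟩

end Poly

end Groth.Agent.Lib.Helper6.CMReg
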