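import Mathlib
import Groth.Prelude.Def_GrLC
import Groth.Prelude.Def_Wider
import Groth.Agent.Lib.Helper9.GrLC.GrH2
import Groth.Agent.Lib.Helper9.GrLC.Van
import Groth.Agent.Lib.Helper6.CMReg.CRg

set_option autoImplicit false
set_option linter.unusedSectionVars false
set_option linter.unusedVariables false
set_option linter.unusedSimpArgs false
set_option linter.style.haveILetI false
set_option maxHeartbeats 400000

/-!
# Vanishing on the left of a short exact sequence, and regular sequences of linear forms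
-/

universe u

namespace Groth.Agent.Lib.Helper6.CMReg

open CategoryTheory DirectSum Groth.Agent.Helper9.GrLCLib Groth.Agent.Helper8.LC
open scoped Pointwise

variable {R : Type u} [CommRing R] [IsNoetherianRing R] (𝒜 : ℤ → AddSubgroup R) [GradedRing 𝒜]
variable (a : HomogeneousIdeal 𝒜)

section Left

variable (X₁ X₂ X₃ : GrLC.GMod.{u} 𝒜)
  (j : X₁.carrier →ₗ[R] X₂.carrier) (p : X₂.carrier →ₗ[R] X₃.carrier)

/-- vanishing on the left of a short exact sequence, positive degrees -/
theorem van_left (h : p ∘ₗ j = 0) (hS : (sesOf j p h).ShortExact)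
    (hj : GrLC.IsGrHom X₁.gr X₂.gr j) (hp : GrLC.IsGrHom X₂.gr X₃.gr p) (q : ℕ) (k : ℤ)
    (h2 : Van a X₂ (q + 1) k) (h3 : Van a X₃ q k) : Van a X₁ (q + 1) k := by
  intro z hz
  have h1 : ((localCohomology a.toIdeal (q + 1)).map (ModuleCat.ofHom j)) z = 0 :=
    h2 _ (Van.LCgr_map_zero 𝒜 X₁.gr X₂.gr a.toIdeal (q + 1) k j hj z hz)
  obtain ⟨w, hw, hwz⟩ := Van.exists_LCgr_of_map_f_eq_zero 𝒜 X₁.gr X₂.gr X₃.gr j p h hS hj hp a q k
    z hz h1
  rw [← hwz, h3 w hw, map_zero]

/-- vanishing on the left, degree zero -/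
theorem van_left_zero (hj : GrLC.IsGrHom X₁.gr X₂.gr j) (hinj : Function.Injective j) (k : ℤ)
    (h2 : Van a X₂ 0 k) : Van a X₁ 0 k := by
  intro z hz
  have h1 : ((localCohomology a.toIdeal 0).map (ModuleCat.ofHom j)) z = 0 :=
    h2 _ (Van.LCgr_map_zero 𝒜 X₁.gr X₂.gr a.toIdeal 0 k j hj z hz)
  have h3 : ev0 a.toIdeal (ModuleCat.of R X₂.carrier)
      (((localCohomology a.toIdeal 0).map (ModuleCat.ofHom j)) z) =
      j (ev0 a.toIdeal (ModuleCat.of R X₁.carrier) z) :=
    Groth.Agent.S13224.Aux.ev0_map' a.toIdeal j z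
  rw [h1, map_zero] at h3
  have h4 : ev0 a.toIdeal (ModuleCat.of R X₁.carrier) z = 0 := hinj (h3.symm.trans (map_zero j).symm)
  exact ev0_injective a.toIdeal (ModuleCat.of R X₁.carrier) (h4.trans (map_zero _).symm)

end Left

section RegSeq

lemma van_of_eq_bot (X : GrLC.GMod.{u} 𝒜) (q : ℕ) (k : ℤ)
    (h : LCgr 𝒜 X.gr a.toIdeal q k = ⊥) : Van a X q k := by
  intro z hz
  rw [h] at hz
  exact AddSubgroup.mem_bot.mp hz

lemma eq_bot_of_van (X : GrLC.GMod.{u} 𝒜) (q : ℕ) (k : ℤ)
    (h : Van a X q k) : LCgr 𝒜 X.gr a.toIdeal q k = ⊥ := by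
  rw [eq_bot_iff]
  intro z hz
  exact AddSubgroup.mem_bot.mpr (h z hz)

/-- the image of `(y, ys) X` in `X / y X` lies in `(ys) (X / y X)` -/
lemma map_mem_ofList_smul {M N : Type u} [AddCommGroup M] [Module R M] [AddCommGroup N]
    [Module R N] (π : M →ₗ[R] N) (y : R) (ys : List R) (hπ : ∀ m : M, π (y • m) = 0) (x : M)
    (hx : x ∈ Ideal.ofList (y :: ys) • (⊤ : Submodule R M)) :
    π x ∈ Ideal.ofList ys • (⊤ : Submodule R N) := by
  rw [Ideal.ofList_cons_smul] at hx
  obtain ⟨u, hu, w, hw, rfl⟩ := Submodule.mem_sup.mp hx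
  obtain ⟨m, -, rfl⟩ := (Submodule.mem_smul_pointwise_iff_exists _ _ _).mp hu
  rw [map_add, hπ m, zero_add]
  have h1 : π w ∈ (Ideal.ofList ys • (⊤ : Submodule R M)).map π := Submodule.mem_map_of_mem hw
  rw [Submodule.map_smul''] at h1
  exact Submodule.smul_mono le_rfl le_top h1

/-- **vanishing from a regular sequence of linear forms** -/
theorem van_of_regular_sequence (e : ℤ) :
    ∀ (ys : List R) (X : GrLC.GMod.{u} 𝒜), (∀ y ∈ ys, y ∈ 𝒜 1 ∧ y ∈ a.toIdeal) →
      RingTheory.Sequence.IsWeaklyRegular X.carrier ys →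
      (∀ r ∈ a.toIdeal, ∀ x : X.carrier, r • x ∈ Ideal.ofList ys • (⊤ : Submodule R X.carrier)) →
      (∀ k : ℤ, e < k → ∀ x ∈ X.gr k, x ∈ Ideal.ofList ys • (⊤ : Submodule R X.carrier)) →
      ∀ (q : ℕ) (k : ℤ), e < k + q → Van a X q k := by
  intro ys
  induction ys with
  | nil =>
    intro X _ _ htors hdeg q k hk
    have hbot : Ideal.ofList ([] : List R) • (⊤ : Submodule R X.carrier) = ⊥ := by
      rw [Ideal.ofList_nil, Submodule.bot_smul]
    rw [hbot] at htors hdeg
    cases q with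
    | zero =>
      intro z hz
      have h1 : ev0 a.toIdeal (ModuleCat.of R X.carrier) z ∈ X.gr k :=
        (Van.mem_LCgr_zero 𝒜 X.gr a.toIdeal k z).mp hz
      have h2 : ev0 a.toIdeal (ModuleCat.of R X.carrier) z = 0 :=
        (Submodule.mem_bot R).mp (hdeg k (by simpa using hk) _ h1)
      exact ev0_injective a.toIdeal (ModuleCat.of R X.carrier) (h2.trans (map_zero _).symm)
    | succ q =>
      intro z _
      have htor : LocCoh.IsPowerTorsion a.toIdeal X.carrier := by
        intro m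
        refine ⟨1, fun r hr => ?_⟩
        rw [pow_one] at hr
        exact (Submodule.mem_bot R).mp (htors r hr m)
      haveI := subsingleton_of_isPowerTorsion a.toIdeal (q + 1) (Nat.succ_pos q) _ htor
      exact Subsingleton.elim _ _
  | cons y ys ih =>
    intro X hys hreg htors hdeg
    have hy := hys y List.mem_cons_self
    rw [RingTheory.Sequence.isWeaklyRegular_cons_iff] at hreg
    have hinj : Function.Injective (Van.mulMap 𝒜 X 1 y) := fun m m' h => hreg.1 h
    have hker := Van.ker_qxMap 𝒜 X 1 y hy.1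
    have hπ0 : ∀ m : X.carrier, Van.qxMap 𝒜 X 1 y hy.1 (y • m) = 0 := by
      intro m
      have h1 : y • m ∈ LinearMap.ker (Van.qxMap 𝒜 X 1 y hy.1) := by
        rw [hker]
        exact ⟨m, rfl⟩
      exact h1
    -- the quotient is a regular module for the rest of the sequence
    have heq : y • (⊤ : Submodule R X.carrier) = LinearMap.range (Van.mulMap 𝒜 X 1 y) := by
      ext m
      rw [Submodule.mem_smul_pointwise_iff_exists]
      constructor
      · rintro ⟨n, -, rfl⟩
        exact ⟨n, rfl⟩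
      · rintro ⟨n, rfl⟩
        exact ⟨n, Submodule.mem_top, rfl⟩
    have hreg' : RingTheory.Sequence.IsWeaklyRegular (Van.Qx 𝒜 X 1 y hy.1).carrier ys :=
      ((Submodule.quotEquivOfEq _ _ heq).isWeaklyRegular_congr ys).mp hreg.2
    have hQ : ∀ (q : ℕ) (k : ℤ), e < k + q → Van a (Van.Qx 𝒜 X 1 y hy.1) q k := by
      apply ih (Van.Qx 𝒜 X 1 y hy.1) (fun y' hy' => hys y' (List.mem_cons_of_mem _ hy')) hreg'
      · intro r hr x'
        obtain ⟨x, rfl⟩ := Van.qxMap_surjective 𝒜 X 1 y hy.1 x'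
        rw [← map_smul]
        exact map_mem_ofList_smul _ y ys hπ0 _ (htors r hr x)
      · intro k hk x' hx'
        have hx'' : ∃ x ∈ X.gr k, Van.qxMap 𝒜 X 1 y hy.1 x = x' := hx'
        obtain ⟨x, hx, rfl⟩ := hx''
        exact map_mem_ofList_smul _ y ys hπ0 _ (hdeg k hk x hx)
    intro q k hk
    cases q with
    | zero =>
      intro z hz
      obtain ⟨n, hn⟩ := ev0_mem a.toIdeal (ModuleCat.of R X.carrier) z
      have h1 : y ^ n • ev0 a.toIdeal (ModuleCat.of R X.carrier) z = 0 :=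
        hn _ (Ideal.pow_mem_pow hy.2 n)
      have h2 : ev0 a.toIdeal (ModuleCat.of R X.carrier) z = 0 := by
        apply (hreg.1.pow n)
        show y ^ n • _ = y ^ n • 0
        rw [h1, smul_zero]
      exact ev0_injective a.toIdeal (ModuleCat.of R X.carrier) (h2.trans (map_zero _).symm)
    | succ q =>
      apply van_of_eq_bot
      refine Groth.Agent.Helper9.GrLCLib.VanZ.vanish_of_regular 𝒜 X 1 y hy.1 (by norm_num) hinj a hy.2 q (e - q + 1)
        (fun n hn => eq_bot_of_van 𝒜 a _ q n (hQ q n (by omega))) k ?_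
      push_cast at hk
      omega

end RegSeq

end Groth.Agent.Lib.Helper6.CMReg
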