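import Mathlib
import Groth.Prelude.Def_GrLC
import Groth.Prelude.Def_Wider
import Groth.Agent.Lib.Helper9.GrLC.GrH2
import Groth.Agent.Lib.Helper9.GrLC.Van
import Groth.Agent.Lib.Helper6.CMReg.CRj

set_option autoImplicit false
set_option linter.unusedSectionVars false
set_option linter.unusedVariables false
set_option linter.unusedSimpArgs false
set_option linter.style.haveILetI false
set_option maxHeartbeats 400000

/-!
# Free graded modules with prescribed degrees of the basis vectors
-/

universe u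

namespace Groth.Agent.Lib.Helper6.CMReg

open CategoryTheory DirectSum Groth.Agent.Helper9.GrLCLib Groth.Agent.Helper8.LC

variable {R : Type u} [CommRing R] (𝒜 : ℤ → AddSubgroup R) [GradedRing 𝒜]

section Fam

variable (n : ℕ) (deg : Fin n → ℤ)

/-- the pieces of the free module with basis vectors in degrees `deg` -/
def freeFam : ℤ → AddSubgroup (Fin n → R) := fun g =>
  { carrier := {v | ∀ b, v b ∈ 𝒜 (g - deg b)}
    zero_mem' := fun b => (𝒜 (g - deg b)).zero_mem
    add_mem' := fun hv hw b => (𝒜 (g - deg b)).add_mem (hv b) (hw b)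
    neg_mem' := fun hv b => (𝒜 (g - deg b)).neg_mem (hv b) }

lemma mem_freeFam {g : ℤ} {v : Fin n → R} : v ∈ freeFam 𝒜 n deg g ↔ ∀ b, v b ∈ 𝒜 (g - deg b) :=
  Iff.rfl

lemma single_mem_freeFam (b : Fin n) {j : ℤ} {r : R} (hr : r ∈ 𝒜 j) :
    (Pi.single b r : Fin n → R) ∈ freeFam 𝒜 n deg (j + deg b) := by
  intro b'
  by_cases h : b' = b
  · subst h
    rw [Pi.single_eq_same, add_sub_cancel_right]
    exact hr
  · rw [Pi.single_eq_of_ne h]
    exact (𝒜 _).zero_mem

lemma proj_coe_free (z : ⨁ g, freeFam 𝒜 n deg g) (g₀ : ℤ) (b : Fin n) :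
    proj 𝒜 (g₀ - deg b) ((DirectSum.coeAddMonoidHom (freeFam 𝒜 n deg) z) b) =
      ((z g₀ : Fin n → R)) b := by
  induction z using DirectSum.induction_on with
  | zero => simp
  | of g v =>
    rw [DirectSum.coeAddMonoidHom_of]
    have hv : (v : Fin n → R) b ∈ 𝒜 (g - deg b) := v.2 b
    by_cases hg : g = g₀
    · subst hg
      rw [proj_of_mem_same 𝒜 hv, DirectSum.of_eq_same]
    · rw [proj_of_mem_ne 𝒜 hv (by omega), DirectSum.of_eq_of_ne _ _ _ (Ne.symm hg)]
      rfl
  | add x y hx hy =>
    rw [map_add, Pi.add_apply, map_add, hx, hy, DirectSum.add_apply, AddSubgroup.coe_add,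
      Pi.add_apply]

lemma coe_free_injective :
    Function.Injective (DirectSum.coeAddMonoidHom (freeFam 𝒜 n deg)) := by
  rw [injective_iff_map_eq_zero]
  intro z hz
  ext g₀ b
  have := proj_coe_free 𝒜 n deg z g₀ b
  rw [hz] at this
  rw [← this]
  simp

open scoped Classical in
lemma coe_free_surjective :
    Function.Surjective (DirectSum.coeAddMonoidHom (freeFam 𝒜 n deg)) := by
  intro v
  have hsingle : ∀ (b : Fin n) (j : ℤ) (r : R), r ∈ 𝒜 j → (Pi.single b r : Fin n → R) ∈
      AddMonoidHom.range (DirectSum.coeAddMonoidHom (freeFam 𝒜 n deg)) := by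
    intro b j r hr
    exact ⟨DirectSum.of (fun g => freeFam 𝒜 n deg g) (j + deg b)
      ⟨_, single_mem_freeFam 𝒜 n deg b hr⟩, DirectSum.coeAddMonoidHom_of _ _ _⟩
  have hsingle' : ∀ (b : Fin n) (r : R), (Pi.single b r : Fin n → R) ∈
      AddMonoidHom.range (DirectSum.coeAddMonoidHom (freeFam 𝒜 n deg)) := by
    intro b r
    have h1 : (Pi.single b r : Fin n → R) =
        ∑ j ∈ (decompose 𝒜 r).support, Pi.single b ((decompose 𝒜 r j : R)) := by
      conv_lhs => rw [← DirectSum.sum_support_decompose 𝒜 r]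
      exact map_sum (AddMonoidHom.single (fun _ : Fin n => R) b) _ _
    rw [h1]
    exact sum_mem (fun j _ => hsingle b j _ (decompose 𝒜 r j).2)
  have h2 : v = ∑ b, Pi.single b (v b) := (Finset.univ_sum_single v).symm
  have h3 : v ∈ AddMonoidHom.range (DirectSum.coeAddMonoidHom (freeFam 𝒜 n deg)) := by
    rw [h2]
    exact sum_mem (fun b _ => hsingle' b (v b))
  exact h3

lemma free_isInternal : DirectSum.IsInternal (freeFam 𝒜 n deg) :=
  ⟨coe_free_injective 𝒜 n deg, coe_free_surjective 𝒜 n deg⟩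

/-- the decomposition of the free module -/
@[instance_reducible]
noncomputable def freeDecomposition : DirectSum.Decomposition (freeFam 𝒜 n deg) :=
  (free_isInternal 𝒜 n deg).chooseDecomposition

lemma freeGradedSMul : SetLike.GradedSMul 𝒜 (freeFam 𝒜 n deg) where
  smul_mem := by
    intro i g r v hr hv
    rw [vadd_eq_add]
    intro b
    have h1 := SetLike.GradedMul.mul_mem (A := 𝒜) hr (hv b)
    have h2 : i + (g - deg b) = i + g - deg b := by ring
    rw [h2] at h1
    exact h1

/-- the free graded module with basis vectors in degrees `deg` -/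
noncomputable def FreeG : GrLC.GMod.{u} 𝒜 :=
  letI := freeDecomposition 𝒜 n deg
  letI := freeGradedSMul 𝒜 n deg
  GrLC.GMod.of 𝒜 (Fin n → R) (freeFam 𝒜 n deg)

lemma mem_FreeG_gr (g : ℤ) (v : Fin n → R) :
    (v : (FreeG 𝒜 n deg).carrier) ∈ (FreeG 𝒜 n deg).gr g ↔ ∀ b, v b ∈ 𝒜 (g - deg b) := Iff.rfl

end Fam

section Maps

variable (n : ℕ) (deg : Fin n → ℤ)

/-- a linear combination of homogeneous elements of the right degrees is a graded map -/
lemma isGrHom_linearCombination {M : Type u} [AddCommGroup M] [Module R M]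
    (ℳ : ℤ → AddSubgroup M) [DirectSum.Decomposition ℳ] [SetLike.GradedSMul 𝒜 ℳ]
    (g : Fin n → M) (hg : ∀ b, g b ∈ ℳ (deg b)) :
    GrLC.IsGrHom (FreeG 𝒜 n deg).gr ℳ
      (show (FreeG 𝒜 n deg).carrier →ₗ[R] M from Fintype.linearCombination R g) := by
  intro k v hv
  have hv' : ∀ b, (v : Fin n → R) b ∈ 𝒜 (k - deg b) := hv
  change Fintype.linearCombination R g (v : Fin n → R) ∈ ℳ k
  rw [Fintype.linearCombination_apply]
  refine sum_mem (fun b _ => ?_)
  have h1 := smul_mem_add 𝒜 ℳ (hv' b) (hg b)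
  rw [sub_add_cancel] at h1
  exact h1

variable (m : ℕ) (deg' : Fin m → ℤ)

/-- a matrix with homogeneous entries of the right degrees is a graded map -/
lemma isGrHom_mulVecLin (A : Matrix (Fin n) (Fin m) R)
    (hA : ∀ a b, A a b ∈ 𝒜 (deg' b - deg a)) :
    GrLC.IsGrHom (FreeG 𝒜 m deg').gr (FreeG 𝒜 n deg).gr
      (show (FreeG 𝒜 m deg').carrier →ₗ[R] (FreeG 𝒜 n deg).carrier from Matrix.mulVecLin A) := by
  intro k v hv
  have hv' : ∀ b, (v : Fin m → R) b ∈ 𝒜 (k - deg' b) := hv
  intro a
  change (A.mulVec (v : Fin m → R)) a ∈ 𝒜 (k - deg a)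
  rw [Matrix.mulVec, dotProduct]
  refine sum_mem (fun b _ => ?_)
  have h1 := SetLike.GradedMul.mul_mem (A := 𝒜) (hA a b) (hv' b)
  have h2 : deg' b - deg a + (k - deg' b) = k - deg a := by ring
  rw [h2] at h1
  exact h1

/-- elements of `𝔪 F` have all coordinates in `𝔪` -/
lemma apply_mem_of_mem_smul_top (I : Ideal R) (w : Fin n → R)
    (hw : w ∈ I • (⊤ : Submodule R (Fin n → R))) (b : Fin n) : w b ∈ I := by
  refine Submodule.smul_induction_on hw (fun r hr v _ => ?_) (fun x y hx hy => ?_)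
  · rw [Pi.smul_apply, smul_eq_mul]
    exact Ideal.mul_mem_right _ _ hr
  · rw [Pi.add_apply]
    exact I.add_mem hx hy

/-- the image of a matrix with entries in `𝔪` lies in `𝔪 F` coordinatewise -/
lemma mulVec_apply_mem (I : Ideal R) (A : Matrix (Fin n) (Fin m) R) (hA : ∀ a b, A a b ∈ I)
    (v : Fin m → R) (a : Fin n) : (A.mulVec v) a ∈ I := by
  rw [Matrix.mulVec, dotProduct]
  exact I.sum_mem (fun b _ => Ideal.mul_mem_right _ _ (hA a b))

end Maps

section FreeVan

variable [IsNoetherianRing R] (a : HomogeneousIdeal 𝒜)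

/-- the ring as a graded module over itself -/
noncomputable def Rg : GrLC.GMod.{u} 𝒜 := GrLC.GMod.of 𝒜 R 𝒜

/-- vanishing for free graded modules -/
theorem van_freeG (hR : ∀ (q : ℕ) (k : ℤ), 0 < k + q → Van a (Rg 𝒜) q k) (e : ℤ) :
    ∀ (n : ℕ) (deg : Fin n → ℤ), (∀ b, deg b ≤ e) → ∀ (q : ℕ) (k : ℤ), e < k + q →
      Van a (FreeG 𝒜 n deg) q k := by
  intro n
  induction n with
  | zero =>
    intro deg _ q k _
    exact van_of_subsingleton a _ (show Subsingleton (Fin 0 → R) from inferInstance) q k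
  | succ n ih =>
    intro deg hdeg q k hk
    let j : (shiftGMod (Rg 𝒜) (deg 0)).carrier →ₗ[R] (FreeG 𝒜 (n + 1) deg).carrier :=
      LinearMap.single R (fun _ : Fin (n + 1) => R) 0
    let p : (FreeG 𝒜 (n + 1) deg).carrier →ₗ[R] (FreeG 𝒜 n (fun b => deg b.succ)).carrier :=
      LinearMap.funLeft R R Fin.succ
    have hj : ∀ r : R, j r = Pi.single 0 r := fun r => rfl
    have hp : ∀ (v : Fin (n + 1) → R) (b : Fin n), p v b = v b.succ := fun v b => rfl
    have h0 : p ∘ₗ j = 0 := by
      apply LinearMap.ext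
      intro r
      funext b
      rw [LinearMap.comp_apply, hp, hj, Pi.single_eq_of_ne (Fin.succ_ne_zero b)]
      rfl
    have hS : (sesOf j p h0).ShortExact := by
      apply sesOf_shortExact
      · intro r r' hrr'
        have := congrFun hrr' 0
        rw [hj, hj, Pi.single_eq_same, Pi.single_eq_same] at this
        exact this
      · intro w
        refine ⟨(Fin.cons 0 w : Fin (n + 1) → R), ?_⟩
        funext b
        rw [hp, Fin.cons_succ]
      · ext v
        constructor
        · intro hv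
          refine ⟨(v : Fin (n + 1) → R) 0, ?_⟩
          rw [hj]
          funext b
          refine Fin.cases ?_ (fun b' => ?_) b
          · rw [Pi.single_eq_same]
          · rw [Pi.single_eq_of_ne (Fin.succ_ne_zero b')]
            have h1 : p v = 0 := LinearMap.mem_ker.mp hv
            have h2 : (p v : Fin n → R) b' = 0 := by rw [h1]; rfl
            exact ((hp v b').symm.trans h2).symm
        · rintro ⟨r, rfl⟩
          exact LinearMap.congr_fun h0 r
    refine van_mid a (shiftGMod (Rg 𝒜) (deg 0)) (FreeG 𝒜 (n + 1) deg)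
      (FreeG 𝒜 n (fun b => deg b.succ)) j p h0 hS ?_ ?_ q k ?_ ?_
    · intro g r hr
      have hr' : r ∈ 𝒜 (g - deg 0) := (mem_shiftGMod_gr (Rg 𝒜) (deg 0) g r).mp hr
      apply (mem_FreeG_gr 𝒜 (n + 1) deg g _).mpr
      intro b
      rw [hj]
      by_cases hb : b = 0
      · subst hb
        rw [Pi.single_eq_same]
        exact hr'
      · rw [Pi.single_eq_of_ne hb]
        exact (𝒜 _).zero_mem
    · intro g v hv
      apply (mem_FreeG_gr 𝒜 n (fun b => deg b.succ) g _).mpr
      intro b
      rw [hp]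
      exact (mem_FreeG_gr 𝒜 (n + 1) deg g v).mp hv b.succ
    · apply van_shift a (Rg 𝒜) (deg 0) q k
      apply hR
      have := hdeg 0
      omega
    · exact ih (fun b => deg b.succ) (fun b => hdeg b.succ) q k hk

end FreeVan

end Groth.Agent.Lib.Helper6.CMReg
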