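import Mathlib
import Groth.Prelude.Def_GrLC
import Groth.Prelude.Def_GrSyz
import Groth.Prelude.Def_Wider
import Groth.Agent.Lib.Helper9.GrLC.GrH2
import Groth.Agent.Lib.Helper9.GrLC.Van
import Groth.Agent.Lib.Helper6.CMReg.CRk

set_option autoImplicit false
set_option linter.unusedSectionVars false
set_option linter.unusedVariables false
set_option linter.unusedSimpArgs false
set_option linter.style.haveILetI false
set_option maxHeartbeats 400000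

/-!
# Regularity of a graded free resolution versus regularity in local cohomology
-/

universe u

namespace Groth.Agent.Lib.Helper6.CMReg

open CategoryTheory DirectSum Groth.Agent.Helper9.GrLCLib Groth.Agent.Helper8.LC

variable {R : Type u} [CommRing R] [IsNoetherianRing R] (𝒜 : ℤ → AddSubgroup R) [GradedRing 𝒜]
variable (a : HomogeneousIdeal 𝒜)
variable {M : Type u} [AddCommGroup M] [Module R M] (ℳ : ℤ → AddSubgroup M)
  [DirectSum.Decomposition ℳ] [SetLike.GradedSMul 𝒜 ℳ]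

section Gen

/-- **degrees of a minimal set of generators are bounded by the regularity** -/
theorem deg_le_of_van (hhom : a.toIdeal = Ideal.span ((𝒜 1 : AddSubgroup R) : Set R))
    (hne : a.toIdeal ≠ ⊤) (X : GrLC.GMod.{u} 𝒜) (n : ℕ) (deg : Fin n → ℤ)
    (ε : (FreeG 𝒜 n deg).carrier →ₗ[R] X.carrier) (hε : Function.Surjective ε)
    (hεg : GrLC.IsGrHom (FreeG 𝒜 n deg).gr X.gr ε)
    (hker : ∀ v : Fin n → R, ε v = 0 → ∀ b, v b ∈ a.toIdeal) (e : ℤ)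
    (hX : ∀ (q : ℕ) (k : ℤ), e < k + q → Van a X q k) (b : Fin n) : deg b ≤ e := by
  by_contra hlt
  push Not at hlt
  obtain ⟨ys, hys1, hys2⟩ := exists_list_gens a hhom
  obtain ⟨K⟩ := nonempty_kpack a X ys hys1
  have h1 : ((Pi.single b 1 : Fin n → R) : (FreeG 𝒜 n deg).carrier) ∈ (FreeG 𝒜 n deg).gr (deg b) := by
    apply (mem_FreeG_gr 𝒜 n deg (deg b) _).mpr
    intro b'
    by_cases h : b' = b
    · subst h
      rw [Pi.single_eq_same, sub_self]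
      exact SetLike.GradedOne.one_mem
    · rw [Pi.single_eq_of_ne h]
      exact (𝒜 _).zero_mem
  let ε' : (Fin n → R) →ₗ[R] X.carrier := ε
  have hε' : Function.Surjective ε' := hε
  have h2 : ε' (Pi.single b 1 : Fin n → R) ∈ X.gr (deg b) := hεg _ _ h1
  have h3 : ε' (Pi.single b 1 : Fin n → R) ∈ a.toIdeal • (⊤ : Submodule R X.carrier) :=
    K.mem_smul_top_of_hyp hys2 (deg b) (fun j => hX j _ (by omega)) _ h2
  have h4 : a.toIdeal • (⊤ : Submodule R X.carrier) =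
      (a.toIdeal • (⊤ : Submodule R (Fin n → R))).map ε' := by
    rw [Submodule.map_smul'', Submodule.map_top, LinearMap.range_eq_top.mpr hε']
  rw [h4] at h3
  obtain ⟨w, hw, hwε⟩ := h3
  have h5 : ε' ((Pi.single b 1 : Fin n → R) - w) = 0 := by
    rw [map_sub, hwε, sub_self]
  have h6 := hker _ h5 b
  rw [Pi.sub_apply, Pi.single_eq_same] at h6
  have h7 : w b ∈ a.toIdeal := apply_mem_of_mem_smul_top n a.toIdeal w hw b
  have h8 : (1 : R) ∈ a.toIdeal := by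
    have := a.toIdeal.add_mem h6 h7
    rwa [sub_add_cancel] at this
  exact hne ((Ideal.eq_top_iff_one _).mpr h8)

end Gen

section Res

variable (F : GrSyz.FreeRes 𝒜 ℳ)

/-- the terms of the resolution as graded modules -/
noncomputable def FG (i : ℕ) : GrLC.GMod.{u} 𝒜 := FreeG 𝒜 (F.rk i) (F.deg i)

/-- the differentials, typed -/
noncomputable def dG (i : ℕ) : (FG 𝒜 ℳ F (i + 1)).carrier →ₗ[R] (FG 𝒜 ℳ F i).carrier :=
  Matrix.mulVecLin (F.d i)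

/-- the augmentation, typed -/
noncomputable def augG : (FG 𝒜 ℳ F 0).carrier →ₗ[R] (GrLC.GMod.of 𝒜 M ℳ).carrier :=
  Fintype.linearCombination R F.aug

lemma isGrHom_dG (i : ℕ) :
    GrLC.IsGrHom (FG 𝒜 ℳ F (i + 1)).gr (FG 𝒜 ℳ F i).gr (dG 𝒜 ℳ F i) :=
  isGrHom_mulVecLin 𝒜 (F.rk i) (F.deg i) (F.rk (i + 1)) (F.deg (i + 1)) (F.d i) (F.d_mem i)

lemma isGrHom_augG :
    GrLC.IsGrHom (FG 𝒜 ℳ F 0).gr (GrLC.GMod.of 𝒜 M ℳ).gr (augG 𝒜 ℳ F) :=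
  isGrHom_linearCombination 𝒜 (F.rk 0) (F.deg 0) ℳ F.aug F.aug_mem

/-- the syzygy modules as graded modules -/
noncomputable def ZS (i : ℕ) : GrLC.GMod.{u} 𝒜 :=
  subGMod (FG 𝒜 ℳ F i) (LinearMap.range (dG 𝒜 ℳ F i))
    (range_isHomogeneous (FG 𝒜 ℳ F (i + 1)).gr (FG 𝒜 ℳ F i).gr (isGrHom_dG 𝒜 ℳ F i))

/-- the inclusion of the syzygy module -/
noncomputable def zIncl (i : ℕ) : (ZS 𝒜 ℳ F i).carrier →ₗ[R] (FG 𝒜 ℳ F i).carrier :=
  subMap (FG 𝒜 ℳ F i) (LinearMap.range (dG 𝒜 ℳ F i)) _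

lemma isGrHom_zIncl (i : ℕ) :
    GrLC.IsGrHom (ZS 𝒜 ℳ F i).gr (FG 𝒜 ℳ F i).gr (zIncl 𝒜 ℳ F i) :=
  isGrHom_subMap _ _ _

lemma zIncl_injective (i : ℕ) : Function.Injective (zIncl 𝒜 ℳ F i) :=
  subMap_injective _ _ _

lemma range_zIncl (i : ℕ) :
    LinearMap.range (zIncl 𝒜 ℳ F i) = LinearMap.range (dG 𝒜 ℳ F i) :=
  range_subMap _ _ _

/-- the surjection of the next term onto the syzygy module -/
noncomputable def zProj (i : ℕ) : (FG 𝒜 ℳ F (i + 1)).carrier →ₗ[R] (ZS 𝒜 ℳ F i).carrier :=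
  subLift (FG 𝒜 ℳ F i) (LinearMap.range (dG 𝒜 ℳ F i)) _ (dG 𝒜 ℳ F i) (fun v => ⟨v, rfl⟩)

lemma zIncl_zProj (i : ℕ) (v : (FG 𝒜 ℳ F (i + 1)).carrier) :
    zIncl 𝒜 ℳ F i (zProj 𝒜 ℳ F i v) = dG 𝒜 ℳ F i v := rfl

lemma isGrHom_zProj (i : ℕ) :
    GrLC.IsGrHom (FG 𝒜 ℳ F (i + 1)).gr (ZS 𝒜 ℳ F i).gr (zProj 𝒜 ℳ F i) := by
  intro g v hv
  apply (mem_subGMod_gr (FG 𝒜 ℳ F i) (LinearMap.range (dG 𝒜 ℳ F i)) _ g _).mpr
  exact isGrHom_dG 𝒜 ℳ F i g v hv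

lemma zProj_surjective (i : ℕ) : Function.Surjective (zProj 𝒜 ℳ F i) := by
  intro z
  have hz : zIncl 𝒜 ℳ F i z ∈ LinearMap.range (dG 𝒜 ℳ F i) := subMap_mem _ _ _ z
  obtain ⟨v, hv⟩ := hz
  refine ⟨v, ?_⟩
  apply zIncl_injective 𝒜 ℳ F i
  rw [zIncl_zProj, hv]

lemma zProj_eq_zero_iff (i : ℕ) (v : (FG 𝒜 ℳ F (i + 1)).carrier) :
    zProj 𝒜 ℳ F i v = 0 ↔ dG 𝒜 ℳ F i v = 0 := by
  constructor
  · intro h
    rw [← zIncl_zProj, h, map_zero]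
  · intro h
    apply zIncl_injective 𝒜 ℳ F i
    rw [zIncl_zProj, h, map_zero]

lemma augG_comp_zIncl : augG 𝒜 ℳ F ∘ₗ zIncl 𝒜 ℳ F 0 = 0 := by
  apply LinearMap.ext
  intro z
  have hz : zIncl 𝒜 ℳ F 0 z ∈ LinearMap.range (dG 𝒜 ℳ F 0) := subMap_mem _ _ _ z
  have h1 : zIncl 𝒜 ℳ F 0 z ∈ LinearMap.ker (augG 𝒜 ℳ F) := by
    have := F.exact_zero
    change LinearMap.ker (augG 𝒜 ℳ F) = LinearMap.range (dG 𝒜 ℳ F 0) at this
    rw [this]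
    exact hz
  exact h1

lemma ses_zero : (sesOf (zIncl 𝒜 ℳ F 0) (augG 𝒜 ℳ F) (augG_comp_zIncl 𝒜 ℳ F)).ShortExact := by
  apply sesOf_shortExact
  · exact zIncl_injective 𝒜 ℳ F 0
  · exact F.aug_surjective
  · rw [range_zIncl]
    exact F.exact_zero

lemma zProj_comp_zIncl (i : ℕ) : zProj 𝒜 ℳ F i ∘ₗ zIncl 𝒜 ℳ F (i + 1) = 0 := by
  apply LinearMap.ext
  intro z
  rw [LinearMap.comp_apply, LinearMap.zero_apply, zProj_eq_zero_iff]
  have hz : zIncl 𝒜 ℳ F (i + 1) z ∈ LinearMap.range (dG 𝒜 ℳ F (i + 1)) := subMap_mem _ _ _ z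
  have h1 : zIncl 𝒜 ℳ F (i + 1) z ∈ LinearMap.ker (dG 𝒜 ℳ F i) := by
    have := F.exact_succ i
    change LinearMap.ker (dG 𝒜 ℳ F i) = LinearMap.range (dG 𝒜 ℳ F (i + 1)) at this
    rw [this]
    exact hz
  exact h1

lemma ses_succ (i : ℕ) :
    (sesOf (zIncl 𝒜 ℳ F (i + 1)) (zProj 𝒜 ℳ F i) (zProj_comp_zIncl 𝒜 ℳ F i)).ShortExact := by
  apply sesOf_shortExact
  · exact zIncl_injective 𝒜 ℳ F (i + 1)
  · exact zProj_surjective 𝒜 ℳ F i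
  · rw [range_zIncl]
    have := F.exact_succ i
    change LinearMap.ker (dG 𝒜 ℳ F i) = LinearMap.range (dG 𝒜 ℳ F (i + 1)) at this
    rw [← this]
    ext v
    rw [LinearMap.mem_ker, LinearMap.mem_ker, zProj_eq_zero_iff]

variable (hR : ∀ (q : ℕ) (k : ℤ), 0 < k + q → Van a (Rg 𝒜) q k)

include hR in
/-- **from the resolution to local cohomology** -/
theorem van_of_isGenLE (hhom : a.toIdeal = Ideal.span ((𝒜 1 : AddSubgroup R) : Set R)) (d : ℤ)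
    (hF : F.IsGenLE d) : ∀ (q : ℕ) (k : ℤ), d < k + q → Van a (GrLC.GMod.of 𝒜 M ℳ) q k := by
  obtain ⟨ys, hys1, hys2⟩ := exists_list_gens a hhom
  obtain ⟨K⟩ := nonempty_kpack a (GrLC.GMod.of 𝒜 M ℳ) ys hys1
  have hFG : ∀ (i q : ℕ) (k : ℤ), d + i < k + q → Van a (FG 𝒜 ℳ F i) q k := fun i q k hk =>
    van_freeG 𝒜 a hR (d + i) (F.rk i) (F.deg i) (fun b => hF i b) q k hk
  have key : ∀ m q : ℕ, ys.length < q + m →
      (∀ k : ℤ, d < k + q → Van a (GrLC.GMod.of 𝒜 M ℳ) q k) ∧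
      (∀ (i : ℕ) (k : ℤ), d + (i + 1) < k + q → Van a (ZS 𝒜 ℳ F i) q k) := by
    intro m
    induction m with
    | zero =>
      intro q hq
      exact ⟨fun k _ => K.van_of_length_lt hys2 _ q (by omega) k,
        fun i k _ => K.van_of_length_lt hys2 _ q (by omega) k⟩
    | succ m ih =>
      intro q hq
      obtain ⟨ih1, ih2⟩ := ih (q + 1) (by omega)
      constructor
      · intro k hk
        refine van_right a (ZS 𝒜 ℳ F 0) (FG 𝒜 ℳ F 0) (GrLC.GMod.of 𝒜 M ℳ) (zIncl 𝒜 ℳ F 0)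
          (augG 𝒜 ℳ F) (augG_comp_zIncl 𝒜 ℳ F) (ses_zero 𝒜 ℳ F) (isGrHom_zIncl 𝒜 ℳ F 0)
          (isGrHom_augG 𝒜 ℳ F) q k (hFG 0 q k (by push_cast; omega)) (ih2 0 k (by push_cast; omega))
      · intro i k hk
        refine van_right a (ZS 𝒜 ℳ F (i + 1)) (FG 𝒜 ℳ F (i + 1)) (ZS 𝒜 ℳ F i)
          (zIncl 𝒜 ℳ F (i + 1)) (zProj 𝒜 ℳ F i) (zProj_comp_zIncl 𝒜 ℳ F i) (ses_succ 𝒜 ℳ F i)
          (isGrHom_zIncl 𝒜 ℳ F (i + 1)) (isGrHom_zProj 𝒜 ℳ F i) q k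
          (hFG (i + 1) q k (by push_cast; omega)) (ih2 (i + 1) k (by push_cast; omega))
  intro q k hk
  exact (key (ys.length + 1) q (by omega)).1 k hk

include hR in
/-- **from local cohomology to the resolution** -/
theorem isGenLE_of_van (hhom : a.toIdeal = Ideal.span ((𝒜 1 : AddSubgroup R) : Set R))
    (hne : a.toIdeal ≠ ⊤) (hmin : F.IsMinimal a.toIdeal) (d : ℤ)
    (hM : ∀ (q : ℕ) (k : ℤ), d < k + q → Van a (GrLC.GMod.of 𝒜 M ℳ) q k) : F.IsGenLE d := by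
  have hkerd : ∀ (i : ℕ) (v : Fin (F.rk (i + 1)) → R) (b : Fin (F.rk i)),
      ((F.d i).mulVec v) b ∈ a.toIdeal := fun i v b =>
    mulVec_apply_mem (F.rk i) (F.rk (i + 1)) a.toIdeal (F.d i) (hmin i) v b
  have key : ∀ i : ℕ, (∀ b, F.deg i b ≤ d + i) ∧
      (∀ (q : ℕ) (k : ℤ), d + (i + 1) < k + q → Van a (ZS 𝒜 ℳ F i) q k) := by
    intro i
    induction i with
    | zero =>
      have hdeg : ∀ b, F.deg 0 b ≤ d + (0 : ℕ) := by
        intro b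
        refine deg_le_of_van 𝒜 a hhom hne (GrLC.GMod.of 𝒜 M ℳ) (F.rk 0) (F.deg 0) (augG 𝒜 ℳ F)
          F.aug_surjective (isGrHom_augG 𝒜 ℳ F) ?_ (d + (0 : ℕ))
          (fun q k hk => hM q k (by push_cast at hk; omega)) b
        intro v hv b'
        have h1 : v ∈ LinearMap.ker (Fintype.linearCombination R F.aug) := hv
        rw [F.exact_zero] at h1
        obtain ⟨u, rfl⟩ := h1
        exact hkerd 0 u b'
      refine ⟨hdeg, ?_⟩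
      have hFG : ∀ (q : ℕ) (k : ℤ), d < k + q → Van a (FG 𝒜 ℳ F 0) q k := fun q k hk =>
        van_freeG 𝒜 a hR (d + (0 : ℕ)) (F.rk 0) (F.deg 0) hdeg q k (by push_cast; omega)
      intro q k hk
      cases q with
      | zero =>
        exact van_left_zero 𝒜 a (ZS 𝒜 ℳ F 0) (FG 𝒜 ℳ F 0) (zIncl 𝒜 ℳ F 0) (isGrHom_zIncl 𝒜 ℳ F 0)
          (zIncl_injective 𝒜 ℳ F 0) k (hFG 0 k (by push_cast at hk ⊢; omega))
      | succ q =>
        exact van_left 𝒜 a (ZS 𝒜 ℳ F 0) (FG 𝒜 ℳ F 0) (GrLC.GMod.of 𝒜 M ℳ) (zIncl 𝒜 ℳ F 0)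
          (augG 𝒜 ℳ F) (augG_comp_zIncl 𝒜 ℳ F) (ses_zero 𝒜 ℳ F) (isGrHom_zIncl 𝒜 ℳ F 0)
          (isGrHom_augG 𝒜 ℳ F) q k (hFG (q + 1) k (by push_cast at hk ⊢; omega))
          (hM q k (by push_cast at hk ⊢; omega))
    | succ i ih =>
      obtain ⟨_, ihZ⟩ := ih
      have hdeg : ∀ b, F.deg (i + 1) b ≤ d + ((i + 1 : ℕ) : ℤ) := by
        intro b
        refine deg_le_of_van 𝒜 a hhom hne (ZS 𝒜 ℳ F i) (F.rk (i + 1)) (F.deg (i + 1))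
          (zProj 𝒜 ℳ F i) (zProj_surjective 𝒜 ℳ F i) (isGrHom_zProj 𝒜 ℳ F i) ?_
          (d + ((i + 1 : ℕ) : ℤ)) (fun q k hk => ihZ q k (by push_cast at hk ⊢; omega)) b
        intro v hv b'
        have h1 : v ∈ LinearMap.ker (Matrix.mulVecLin (F.d i)) :=
          (zProj_eq_zero_iff 𝒜 ℳ F i v).mp hv
        rw [F.exact_succ i] at h1
        obtain ⟨u, rfl⟩ := h1
        exact hkerd (i + 1) u b'
      refine ⟨hdeg, ?_⟩
      have hFG : ∀ (q : ℕ) (k : ℤ), d + ((i + 1 : ℕ) : ℤ) < k + q →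
          Van a (FG 𝒜 ℳ F (i + 1)) q k := fun q k hk =>
        van_freeG 𝒜 a hR (d + ((i + 1 : ℕ) : ℤ)) (F.rk (i + 1)) (F.deg (i + 1)) hdeg q k hk
      intro q k hk
      cases q with
      | zero =>
        exact van_left_zero 𝒜 a (ZS 𝒜 ℳ F (i + 1)) (FG 𝒜 ℳ F (i + 1)) (zIncl 𝒜 ℳ F (i + 1))
          (isGrHom_zIncl 𝒜 ℳ F (i + 1)) (zIncl_injective 𝒜 ℳ F (i + 1)) k
          (hFG 0 k (by push_cast at hk ⊢; omega))
      | succ q =>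
        exact van_left 𝒜 a (ZS 𝒜 ℳ F (i + 1)) (FG 𝒜 ℳ F (i + 1)) (ZS 𝒜 ℳ F i)
          (zIncl 𝒜 ℳ F (i + 1)) (zProj 𝒜 ℳ F i) (zProj_comp_zIncl 𝒜 ℳ F i) (ses_succ 𝒜 ℳ F i)
          (isGrHom_zIncl 𝒜 ℳ F (i + 1)) (isGrHom_zProj 𝒜 ℳ F i) q k
          (hFG (q + 1) k (by push_cast at hk ⊢; omega)) (ihZ q k (by push_cast at hk ⊢; omega))
  intro i b
  exact (key i).1 b

end Res

end Groth.Agent.Lib.Helper6.CMReg
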