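import Mathlib
import Groth.Prelude.Def_GrLC
import Groth.Prelude.Def_GrSyz
import Groth.Prelude.Def_Wider
import Groth.Agent.Lib.Helper9.GrLC.Trans
import Groth.Agent.Lib.Lead.SecReg1
import Groth.Agent.S15419
import Groth.Agent.Lib.Helper6.CMReg.CRi
import Groth.Agent.Lib.Helper6.CMReg.CRl

set_option autoImplicit false
set_option linter.unusedSectionVars false
set_option linter.unusedVariables false
set_option linter.unusedSimpArgs false
set_option linter.style.haveILetI false
set_option maxHeartbeats 400000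

/-!
# Regularity over polynomial rings: minimal free resolutions versus local cohomology
-/

universe u

namespace Groth.Agent.Lib.Helper6.CMReg

open CategoryTheory DirectSum Groth.Agent.Helper9.GrLCLib Groth.Agent.Helper8.LC

section Order

lemma add_coe_le_coe_iff (x : WithBot (WithTop ℤ)) (i d : ℤ) :
    x + ((i : WithTop ℤ) : WithBot (WithTop ℤ)) ≤ ((d : WithTop ℤ) : WithBot (WithTop ℤ)) ↔
      x ≤ (((d - i : ℤ) : WithTop ℤ) : WithBot (WithTop ℤ)) := by
  induction x using WithBot.recBotCoe with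
  | bot => simp
  | coe y =>
    induction y using WithTop.recTopCoe with
    | top =>
      rw [← WithBot.coe_add, WithBot.coe_le_coe, WithBot.coe_le_coe, WithTop.top_add]
      simp
    | coe n =>
      rw [← WithBot.coe_add, ← WithTop.coe_add, WithBot.coe_le_coe, WithBot.coe_le_coe,
        WithTop.coe_le_coe, WithTop.coe_le_coe]
      omega

lemma endDeg_add_le_iff {H : Type u} [AddCommGroup H] (𝒳 : ℤ → AddSubgroup H) (i d : ℤ) :
    GrLC.endDeg 𝒳 + ((i : WithTop ℤ) : WithBot (WithTop ℤ)) ≤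
      ((d : WithTop ℤ) : WithBot (WithTop ℤ)) ↔ ∀ k : ℤ, d < k + i → 𝒳 k = ⊥ := by
  rw [add_coe_le_coe_iff, endDeg_le_iff]
  constructor
  · intro h k hk
    exact h k (by omega)
  · intro h k hk
    exact h k (by omega)

/-- an extended integer is the infimum of its integer upper bounds -/
lemma iInf_coe_eq (x : WithBot (WithTop ℤ)) :
    (⨅ (r : ℤ) (_ : x ≤ ((r : WithTop ℤ) : WithBot (WithTop ℤ))),
      ((r : WithTop ℤ) : WithBot (WithTop ℤ))) = x := by
  apply le_antisymm
  · induction x using WithBot.recBotCoe with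
    | bot =>
      set y := (⨅ (r : ℤ) (_ : (⊥ : WithBot (WithTop ℤ)) ≤ ((r : WithTop ℤ) : WithBot (WithTop ℤ))),
        ((r : WithTop ℤ) : WithBot (WithTop ℤ))) with hy
      have hle : ∀ r : ℤ, y ≤ ((r : WithTop ℤ) : WithBot (WithTop ℤ)) :=
        fun r => iInf₂_le (f := fun (r : ℤ)
          (_ : (⊥ : WithBot (WithTop ℤ)) ≤ ((r : WithTop ℤ) : WithBot (WithTop ℤ))) =>
          ((r : WithTop ℤ) : WithBot (WithTop ℤ))) r bot_le
      clear_value y
      induction y using WithBot.recBotCoe with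
      | bot => exact le_rfl
      | coe z =>
        exfalso
        induction z using WithTop.recTopCoe with
        | top =>
          have := hle 0
          rw [WithBot.coe_le_coe] at this
          simp at this
        | coe n =>
          have := hle (n - 1)
          rw [WithBot.coe_le_coe, WithTop.coe_le_coe] at this
          omega
    | coe y =>
      induction y using WithTop.recTopCoe with
      | top => exact le_top
      | coe n =>
        exact iInf₂_le (f := fun (r : ℤ)
          (_ : (((n : WithTop ℤ) : WithBot (WithTop ℤ))) ≤ ((r : WithTop ℤ) : WithBot (WithTop ℤ))) =>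
          ((r : WithTop ℤ) : WithBot (WithTop ℤ))) n le_rfl
  · exact le_iInf₂ (fun r hr => hr)

lemma eq_of_forall_le_coe_iff (x y : WithBot (WithTop ℤ))
    (h : ∀ d : ℤ, x ≤ ((d : WithTop ℤ) : WithBot (WithTop ℤ)) ↔
      y ≤ ((d : WithTop ℤ) : WithBot (WithTop ℤ))) : x = y := by
  rw [← iInf_coe_eq x, ← iInf_coe_eq y]
  apply iInf_congr
  intro r
  rw [h r]

end Order

section Poly

variable (k : Type u) [Field k] (n : ℕ)

local notation "S" => MvPolynomial (Fin n) k
local notation "𝒜₀" => GrSyz.stdGr k (Fin n)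

/-- the irrelevant ideal is generated by the variables -/
lemma irrel_eq_ofList :
    (Trans.idealToAG 𝒜₀ (GrSyz.irrel 𝒜₀)).toIdeal =
      Ideal.ofList (List.ofFn (MvPolynomial.X : Fin n → S)) := by
  have h1 : Ideal.ofList (List.ofFn (MvPolynomial.X : Fin n → S)) =
      Ideal.span (MvPolynomial.X '' (Set.univ : Set (Fin n))) := by
    apply congrArg Ideal.span
    ext x
    simp [List.mem_ofFn]
  rw [h1]
  change Ideal.span {r : S | ∃ m : ℤ, 0 < m ∧ r ∈ 𝒜₀ m} = _
  apply le_antisymm
  · rw [Ideal.span_le]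
    rintro p ⟨m, hm, hp⟩
    have hp' : p.IsWeightedHomogeneous (fun _ : Fin n => (1 : ℤ)) m := hp
    rw [SetLike.mem_coe, MvPolynomial.mem_ideal_span_X_image]
    intro d hd
    have hcoef : MvPolynomial.coeff d p ≠ 0 := MvPolynomial.mem_support_iff.mp hd
    have hw : Finsupp.weight (fun _ : Fin n => (1 : ℤ)) d = m := hp' hcoef
    have hd0 : d ≠ 0 := by
      intro h0
      rw [h0, map_zero] at hw
      omega
    by_contra hcon
    push Not at hcon
    exact hd0 (Finsupp.ext (fun i => hcon i (Set.mem_univ i)))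
  · rw [Ideal.span_le]
    rintro _ ⟨i, -, rfl⟩
    apply Ideal.subset_span
    exact ⟨1, one_pos, MvPolynomial.isWeightedHomogeneous_X k (fun _ : Fin n => (1 : ℤ)) i⟩

lemma irrel_ne_top : (Trans.idealToAG 𝒜₀ (GrSyz.irrel 𝒜₀)).toIdeal ≠ ⊤ := by
  have h1 : Ideal.ofList (List.ofFn (MvPolynomial.X : Fin n → S)) =
      Ideal.span (MvPolynomial.X '' (Set.univ : Set (Fin n))) := by
    apply congrArg Ideal.span
    ext x
    simp [List.mem_ofFn]
  rw [irrel_eq_ofList, h1]
  intro htop
  have h2 : (1 : S) ∈ Ideal.span (MvPolynomial.X '' (Set.univ : Set (Fin n))) := by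
    rw [htop]
    exact Submodule.mem_top
  rw [MvPolynomial.mem_ideal_span_X_image] at h2
  have h3 : (0 : Fin n →₀ ℕ) ∈ (1 : S).support := by
    rw [MvPolynomial.mem_support_iff, MvPolynomial.coeff_one, if_pos rfl]
    exact one_ne_zero
  obtain ⟨i, -, hi⟩ := h2 0 h3
  exact hi rfl

/-- the local cohomology of the polynomial ring vanishes in total degree `> 0` -/
theorem van_poly (q : ℕ) (k' : ℤ) (hk : 0 < k' + q) :
    Van (Trans.idealToAG 𝒜₀ (GrSyz.irrel 𝒜₀)) (Rg (Trans.toAG 𝒜₀)) q k' := by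
  have hofl := irrel_eq_ofList k n
  refine van_of_regular_sequence (Trans.toAG 𝒜₀) (Trans.idealToAG 𝒜₀ (GrSyz.irrel 𝒜₀)) 0
    (List.ofFn (MvPolynomial.X : Fin n → S)) (Rg (Trans.toAG 𝒜₀)) ?_ ?_ ?_ ?_ q k' hk
  · intro y hy
    obtain ⟨i, rfl⟩ := (List.mem_ofFn' _ _).mp hy
    refine ⟨MvPolynomial.isWeightedHomogeneous_X k (fun _ : Fin n => (1 : ℤ)) i, ?_⟩
    rw [hofl]
    exact Ideal.subset_span hy
  · exact Groth.Agent.Lead.SecReg.isWeaklyRegular_X k n
  · intro r hr x
    rw [hofl] at hr
    exact Submodule.smul_mem_smul hr Submodule.mem_top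
  · intro m hm (x : S) hx
    have h1 : x ∈ (Trans.idealToAG 𝒜₀ (GrSyz.irrel 𝒜₀)).toIdeal :=
      Ideal.subset_span ⟨m, hm, hx⟩
    rw [hofl] at h1
    have h2 : x • (1 : S) ∈ Ideal.ofList (List.ofFn (MvPolynomial.X : Fin n → S)) •
        (⊤ : Submodule S S) := Submodule.smul_mem_smul h1 Submodule.mem_top
    have h3 : x • (1 : S) = x := by rw [smul_eq_mul, mul_one]
    rw [h3] at h2
    exact h2

end Poly

end Groth.Agent.Lib.Helper6.CMReg
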