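import Mathlib
import Groth.Prelude.Def_GrLC
import Groth.Prelude.Def_GrSyz
import Groth.Prelude.Def_Wider
import Groth.Agent.Lib.Helper9.GrLC.Trans
import Groth.Agent.Lib.Helper6.CMReg.CRm

set_option autoImplicit false
set_option linter.unusedSectionVars false
set_option linter.unusedVariables false
set_option linter.unusedSimpArgs false
set_option linter.style.haveILetI false
set_option maxHeartbeats 400000

/-!
# The theorem of Eisenbud and Goto over polynomial rings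
-/

universe u

namespace Groth.Agent.Lib.Helper6.CMReg

open CategoryTheory DirectSum Groth.Agent.Helper9.GrLCLib Groth.Agent.Helper8.LC

section TransRes

variable {R : Type u} [CommRing R] {σ : Type u} [SetLike σ R] [AddSubgroupClass σ R]
  (𝒜 : ℤ → σ) [GradedRing 𝒜]
variable {M : Type u} [AddCommGroup M] [Module R M] {τ : Type u} [SetLike τ M]
  [AddSubgroupClass τ M] (ℳ : ℤ → τ) [DirectSum.Decomposition ℳ] [SetLike.GradedSMul 𝒜 ℳ]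

/-- translation of free resolutions to additive subgroups -/
def freeResToAG (F : GrSyz.FreeRes 𝒜 ℳ) : GrSyz.FreeRes (Trans.toAG 𝒜) (Trans.toAG ℳ) where
  rk := F.rk
  deg := F.deg
  d := F.d
  aug := F.aug
  d_mem := F.d_mem
  aug_mem := F.aug_mem
  aug_surjective := F.aug_surjective
  exact_zero := F.exact_zero
  exact_succ := F.exact_succ

lemma freeResToAG_isGenLE (F : GrSyz.FreeRes 𝒜 ℳ) (d : ℤ) :
    (freeResToAG 𝒜 ℳ F).IsGenLE d ↔ F.IsGenLE d := Iff.rfl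

lemma freeResToAG_isMinimal (F : GrSyz.FreeRes 𝒜 ℳ) (I : Ideal R) :
    (freeResToAG 𝒜 ℳ F).IsMinimal I ↔ F.IsMinimal I := Iff.rfl

end TransRes

section Main

variable (k : Type u) [Field k] (n : ℕ)
variable {M : Type u} [AddCommGroup M] [Module k M] [Module (MvPolynomial (Fin n) k) M]
  (ℳ : ℤ → Submodule k M) [DirectSum.Decomposition ℳ]
  [SetLike.GradedSMul (GrSyz.stdGr k (Fin n)) ℳ]

local notation "S" => MvPolynomial (Fin n) k
local notation "𝒜₀" => GrSyz.stdGr k (Fin n)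
local notation "𝔪₀" => GrSyz.irrel (GrSyz.stdGr k (Fin n))

/-- the graded module, translated -/
noncomputable abbrev XM : GrLC.GMod.{u} (Trans.toAG 𝒜₀) :=
  GrLC.GMod.of (Trans.toAG 𝒜₀) M (Trans.toAG ℳ)

lemma irrel_hhom : (Trans.idealToAG 𝒜₀ 𝔪₀).toIdeal =
    Ideal.span ((Trans.toAG 𝒜₀ 1 : AddSubgroup S) : Set S) :=
  (Groth.Agent.S15419.Aux.irrel_toAG 𝒜₀).trans (span_pos_eq_span_one k (Fin n))

/-- strong regularity in local cohomology -/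
def SReg (d : ℤ) : Prop :=
  ∀ (q : ℕ) (k' : ℤ), d < k' + q → Van (Trans.idealToAG 𝒜₀ 𝔪₀) (XM k n ℳ) q k'

/-- Eisenbud–Goto, translated -/
theorem isGenLE_iff_sReg (F : GrSyz.FreeRes 𝒜₀ ℳ) (hF : F.IsMinimal (𝔪₀).toIdeal) (d : ℤ) :
    F.IsGenLE d ↔ SReg k n ℳ d := by
  constructor
  · intro h
    exact van_of_isGenLE (Trans.toAG 𝒜₀) (Trans.idealToAG 𝒜₀ 𝔪₀) (Trans.toAG ℳ)
      (freeResToAG 𝒜₀ ℳ F) (van_poly k n) (irrel_hhom k n) d h
  · intro h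
    exact isGenLE_of_van (Trans.toAG 𝒜₀) (Trans.idealToAG 𝒜₀ 𝔪₀) (Trans.toAG ℳ)
      (freeResToAG 𝒜₀ ℳ F) (van_poly k n) (irrel_hhom k n) (irrel_ne_top k n) hF d h

/-- strong regularity in terms of the ends of the local cohomology modules -/
theorem sReg_iff_endDeg (E : GrLC.StarInjRes 𝒜₀ ℳ) (d : ℤ) :
    SReg k n ℳ d ↔ ∀ i : ℕ, GrLC.endDeg (E.Hgr 𝔪₀ i) +
      (((i : ℤ) : WithTop ℤ) : WithBot (WithTop ℤ)) ≤ ((d : WithTop ℤ) : WithBot (WithTop ℤ)) := by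
  constructor
  · intro h i
    rw [endDeg_add_le_iff]
    intro k' hk'
    exact (van_toAG_iff_hgr 𝒜₀ ℳ E 𝔪₀ i k').mp (h i k' hk')
  · intro h q k' hk'
    have h1 := (endDeg_add_le_iff _ _ _).mp (h q) k' hk'
    exact (van_toAG_iff_hgr 𝒜₀ ℳ E 𝔪₀ q k').mpr h1

/-- strong regularity from weak regularity (Mumford) -/
theorem sReg_iff_weak (d : ℤ) :
    SReg k n ℳ d ↔ (∀ k' : ℤ, d < k' → Van (Trans.idealToAG 𝒜₀ 𝔪₀) (XM k n ℳ) 0 k') ∧
      ∀ i : ℕ, 0 < i → Van (Trans.idealToAG 𝒜₀ 𝔪₀) (XM k n ℳ) i (d - (i : ℤ) + 1) := by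
  constructor
  · intro h
    exact ⟨fun k' hk' => h 0 k' (by simpa using hk'), fun i _ => h i _ (by omega)⟩
  · rintro ⟨h0, hW⟩ q k' hk'
    cases q with
    | zero => exact h0 k' (by simpa using hk')
    | succ q =>
      have h1 := main_propagate (Trans.idealToAG 𝒜₀ 𝔪₀) (irrel_hhom k n) (XM k n ℳ) d 1 le_rfl
        (fun i hi => by
          have h2 := hW i (by omega)
          have h3 : d - (i : ℤ) + 1 = d + 1 - i := by ring
          rw [h3] at h2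
          exact h2) (q + 1) (by omega) (k' + ((q + 1 : ℕ) : ℤ)) hk'
      rw [add_sub_cancel_right] at h1
      exact h1

/-- the statement of S15417 -/
theorem main_15417 (F : GrSyz.FreeRes 𝒜₀ ℳ) (hF : F.IsMinimal (𝔪₀).toIdeal)
    (E : GrLC.StarInjRes 𝒜₀ ℳ) (d : ℤ) :
    F.IsGenLE d ↔ ∀ i : ℕ, GrLC.endDeg (E.Hgr 𝔪₀ i) +
      (((i : ℤ) : WithTop ℤ) : WithBot (WithTop ℤ)) ≤ ((d : WithTop ℤ) : WithBot (WithTop ℤ)) :=
  (isGenLE_iff_sReg k n ℳ F hF d).trans (sReg_iff_endDeg k n ℳ E d)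

/-- the statement of S15418 -/
theorem main_15418 (F : GrSyz.FreeRes 𝒜₀ ℳ) (hF : F.IsMinimal (𝔪₀).toIdeal)
    (E : GrLC.StarInjRes 𝒜₀ ℳ) (d : ℤ) :
    F.IsGenLE d ↔ (GrLC.endDeg (E.Hgr 𝔪₀ 0) ≤ ((d : WithTop ℤ) : WithBot (WithTop ℤ)) ∧
      ∀ i : ℕ, 0 < i → E.Hcomp 𝔪₀ i (d - (i : ℤ) + 1) = ⊥) := by
  rw [isGenLE_iff_sReg k n ℳ F hF d, sReg_iff_weak, endDeg_le_iff_van 𝒜₀ ℳ E]
  constructor
  · rintro ⟨h0, hW⟩
    exact ⟨h0, fun i hi => (van_toAG_iff_hcomp 𝒜₀ ℳ E 𝔪₀ i _).mp (hW i hi)⟩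
  · rintro ⟨h0, hW⟩
    exact ⟨h0, fun i hi => (van_toAG_iff_hcomp 𝒜₀ ℳ E 𝔪₀ i _).mpr (hW i hi)⟩

/-- the regularity is the local cohomology regularity, given one minimal resolution -/
theorem reg_eq_iSup (F : GrSyz.FreeRes 𝒜₀ ℳ) (hF : F.IsMinimal (𝔪₀).toIdeal)
    (E : GrLC.StarInjRes 𝒜₀ ℳ) :
    GrSyz.reg 𝒜₀ ℳ (𝔪₀).toIdeal = ⨆ i : ℕ, (GrLC.endDeg (E.Hgr 𝔪₀ i) +
      (((i : ℤ) : WithTop ℤ) : WithBot (WithTop ℤ))) := by
  have key : ∀ r : ℤ, GrSyz.IsRegLE 𝒜₀ ℳ (𝔪₀).toIdeal r ↔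
      (⨆ i : ℕ, (GrLC.endDeg (E.Hgr 𝔪₀ i) + (((i : ℤ) : WithTop ℤ) : WithBot (WithTop ℤ)))) ≤
        ((r : WithTop ℤ) : WithBot (WithTop ℤ)) := by
    intro r
    rw [iSup_le_iff]
    constructor
    · rintro ⟨F', hF', hgen⟩
      exact (main_15417 k n ℳ F' hF' E r).mp hgen
    · intro h
      exact ⟨F, hF, (main_15417 k n ℳ F hF E r).mpr h⟩
  unfold GrSyz.reg
  conv_rhs => rw [← iInf_coe_eq (⨆ i : ℕ, (GrLC.endDeg (E.Hgr 𝔪₀ i) +
    (((i : ℤ) : WithTop ℤ) : WithBot (WithTop ℤ))))]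
  apply iInf_congr
  intro r
  rw [key r]

end Main

end Groth.Agent.Lib.Helper6.CMReg
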