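import Mathlib
import Groth.Prelude.Def_GrLC
import Groth.Prelude.Def_Wider
import Groth.Agent.Lib.Helper9.GrLC.GrH2
import Groth.Agent.Lib.Helper9.GrLC.Van
import Groth.Agent.Lib.Helper9.GrLC.Ess
import Groth.Agent.Lib.Helper6.CMReg.CRj

set_option autoImplicit false
set_option linter.unusedSectionVars false
set_option linter.unusedVariables false
set_option linter.unusedSimpArgs false
set_option linter.style.haveILetI false
set_option maxHeartbeats 400000

/-!
# Strong regularity along regular sequences of linear forms, and for torsion modules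
-/

universe u

namespace Groth.Agent.Lib.Helper6.CMReg

open CategoryTheory DirectSum Groth.Agent.Helper9.GrLCLib Groth.Agent.Helper8.LC
open scoped Pointwise

variable {R : Type u} [CommRing R] [IsNoetherianRing R] (𝒜 : ℤ → AddSubgroup R) [GradedRing 𝒜]
variable (a : HomogeneousIdeal 𝒜)

/-- strong regularity: vanishing of `H^q_a(X)_k` for `k + q > d` -/
def SRegG (X : GrLC.GMod.{u} 𝒜) (d : ℤ) : Prop :=
  ∀ (q : ℕ) (k : ℤ), d < k + q → Van a X q k

section Torsion

/-- strong regularity of a torsion module is the vanishing of its high degree pieces -/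
theorem sRegG_torsion_iff (X : GrLC.GMod.{u} 𝒜) (hX : LocCoh.IsPowerTorsion a.toIdeal X.carrier)
    (d : ℤ) : SRegG 𝒜 a X d ↔ ∀ k : ℤ, d < k → ∀ x ∈ X.gr k, x = 0 := by
  constructor
  · intro h k hk x hx
    exact eq_zero_of_van_zero a X k (h 0 k (by simpa using hk)) x hx (hX x)
  · intro h q k hk
    cases q with
    | zero =>
      intro z hz
      have h1 : ev0 a.toIdeal (ModuleCat.of R X.carrier) z ∈ X.gr k :=
        (Van.mem_LCgr_zero 𝒜 X.gr a.toIdeal k z).mp hz
      have h2 := h k (by simpa using hk) _ h1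
      exact ev0_injective a.toIdeal (ModuleCat.of R X.carrier) (h2.trans (map_zero _).symm)
    | succ q =>
      intro z _
      haveI := subsingleton_of_isPowerTorsion a.toIdeal (q + 1) (Nat.succ_pos q) _ hX
      exact Subsingleton.elim _ _

end Torsion

section Iso

/-- strong regularity is invariant under homogeneous isomorphisms -/
theorem sRegG_of_bijective (X Y : GrLC.GMod.{u} 𝒜) (π : X.carrier →ₗ[R] Y.carrier)
    (hπg : GrLC.IsGrHom X.gr Y.gr π) (hb : Function.Bijective π) (d : ℤ) :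
    SRegG 𝒜 a X d ↔ SRegG 𝒜 a Y d := by
  have hsymm : GrLC.IsGrHom Y.gr X.gr (LinearEquiv.ofBijective π hb).symm.toLinearMap :=
    isGrHom_symm X.gr Y.gr (LinearEquiv.ofBijective π hb) hπg
  constructor
  · intro h q k hk
    exact van_of_equiv a X Y (LinearEquiv.ofBijective π hb) hsymm q k (h q k hk)
  · intro h q k hk
    refine van_of_retract a Y X (LinearEquiv.ofBijective π hb).symm.toLinearMap π ?_ 0 ?_ q k ?_
    · apply LinearMap.ext
      intro x
      exact (LinearEquiv.ofBijective π hb).symm_apply_apply x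
    · intro g x hx
      rw [add_zero]
      exact hπg g x hx
    · rw [add_zero]
      exact h q k hk

end Iso

section NZD

variable (X : GrLC.GMod.{u} 𝒜) (y : R) (hy : y ∈ 𝒜 1) (hya : y ∈ a.toIdeal)
  (hreg : IsSMulRegular X.carrier y)

include hreg in
lemma mulMap_injective_of_isSMulRegular : Function.Injective (Van.mulMap 𝒜 X 1 y) :=
  fun m m' h => hreg h

include hya hreg in
/-- strong regularity of `X / y X` implies that of `X` -/
theorem sRegG_of_quot (d : ℤ) (h : SRegG 𝒜 a (Van.Qx 𝒜 X 1 y hy) d) : SRegG 𝒜 a X d := by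
  intro q k hk
  cases q with
  | zero =>
    intro z hz
    obtain ⟨n, hn⟩ := ev0_mem a.toIdeal (ModuleCat.of R X.carrier) z
    have h1 : y ^ n • ev0 a.toIdeal (ModuleCat.of R X.carrier) z = 0 :=
      hn _ (Ideal.pow_mem_pow hya n)
    have h2 : ev0 a.toIdeal (ModuleCat.of R X.carrier) z = 0 := by
      apply (hreg.pow n)
      show y ^ n • _ = y ^ n • 0
      rw [h1, smul_zero]
    exact ev0_injective a.toIdeal (ModuleCat.of R X.carrier) (h2.trans (map_zero _).symm)
  | succ q =>
    apply van_of_eq_bot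
    refine Groth.Agent.Helper9.GrLCLib.VanZ.vanish_of_regular 𝒜 X 1 y hy (by norm_num)
      (mulMap_injective_of_isSMulRegular 𝒜 X y hreg) a hya q (d - q + 1)
      (fun n hn => eq_bot_of_van 𝒜 a _ q n (h q n (by omega))) k ?_
    push_cast at hk
    omega

include hreg in
/-- strong regularity of `X` implies that of `X / y X` -/
theorem sRegG_quot (d : ℤ) (h : SRegG 𝒜 a X d) : SRegG 𝒜 a (Van.Qx 𝒜 X 1 y hy) d := by
  intro q k hk
  have hinj := mulMap_injective_of_isSMulRegular 𝒜 X y hreg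
  refine van_right a (shiftGMod X 1) X (Van.Qx 𝒜 X 1 y hy) (Van.mulMap 𝒜 X 1 y)
    (Van.qxMap 𝒜 X 1 y hy) (Van.qxMap_comp_mulMap 𝒜 X 1 y hy)
    (Van.mulSES_shortExact 𝒜 X 1 y hy hinj) (Van.isGrHom_mulMap 𝒜 X 1 y hy)
    (Van.isGrHom_qxMap 𝒜 X 1 y hy) q k (h q k hk) ?_
  apply van_shift a X 1 (q + 1) k
  apply h
  push_cast
  omega

end NZD

section RegSeq

/-- **strong regularity is unchanged modulo a regular sequence of linear forms** -/
theorem sRegG_iff_of_regular_sequence (d : ℤ) :
    ∀ (ys : List R) (X Y : GrLC.GMod.{u} 𝒜) (π : X.carrier →ₗ[R] Y.carrier),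
      (∀ y ∈ ys, y ∈ 𝒜 1 ∧ y ∈ a.toIdeal) →
      RingTheory.Sequence.IsWeaklyRegular X.carrier ys →
      GrLC.IsGrHom X.gr Y.gr π → Function.Surjective π →
      LinearMap.ker π = Ideal.ofList ys • (⊤ : Submodule R X.carrier) →
      (SRegG 𝒜 a X d ↔ SRegG 𝒜 a Y d) := by
  intro ys
  induction ys with
  | nil =>
    intro X Y π _ _ hπg hπ hker
    have hbot : Ideal.ofList ([] : List R) • (⊤ : Submodule R X.carrier) = ⊥ := by
      rw [Ideal.ofList_nil, Submodule.bot_smul]
    rw [hbot] at hker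
    exact sRegG_of_bijective 𝒜 a X Y π hπg ⟨LinearMap.ker_eq_bot.mp hker, hπ⟩ d
  | cons y ys ih =>
    intro X Y π hys hreg hπg hπ hker
    have hy := hys y List.mem_cons_self
    rw [RingTheory.Sequence.isWeaklyRegular_cons_iff] at hreg
    have hkerq := Van.ker_qxMap 𝒜 X 1 y hy.1
    have hπ0 : ∀ m : X.carrier, Van.qxMap 𝒜 X 1 y hy.1 (y • m) = 0 := by
      intro m
      have h1 : y • m ∈ LinearMap.ker (Van.qxMap 𝒜 X 1 y hy.1) := by
        rw [hkerq]
        exact ⟨m, rfl⟩
      exact h1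
    have heq : y • (⊤ : Submodule R X.carrier) = LinearMap.range (Van.mulMap 𝒜 X 1 y) := by
      ext m
      rw [Submodule.mem_smul_pointwise_iff_exists]
      constructor
      · rintro ⟨n, -, rfl⟩
        exact ⟨n, rfl⟩
      · rintro ⟨n, rfl⟩
        exact ⟨n, Submodule.mem_top, rfl⟩
    have hreg' : RingTheory.Sequence.IsWeaklyRegular (Van.Qx 𝒜 X 1 y hy.1).carrier ys :=
      ((Submodule.quotEquivOfEq _ _ heq).isWeaklyRegular_congr ys).mp hreg.2
    -- the induced map
    have hle : LinearMap.range (Van.mulMap 𝒜 X 1 y) ≤ LinearMap.ker π := by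
      rw [hker, ← heq, Ideal.ofList_cons_smul]
      exact le_sup_left
    let π' : (Van.Qx 𝒜 X 1 y hy.1).carrier →ₗ[R] Y.carrier :=
      Submodule.liftQ (LinearMap.range (Van.mulMap 𝒜 X 1 y)) π hle
    have hπ' : ∀ x : X.carrier, π' (Van.qxMap 𝒜 X 1 y hy.1 x) = π x := fun x => rfl
    have hπ'g : GrLC.IsGrHom (Van.Qx 𝒜 X 1 y hy.1).gr Y.gr π' := by
      intro g x' hx'
      have hx'' : ∃ x ∈ X.gr g, Van.qxMap 𝒜 X 1 y hy.1 x = x' := hx'
      obtain ⟨x, hx, rfl⟩ := hx''
      rw [hπ']
      exact hπg g x hx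
    have hπ's : Function.Surjective π' := by
      intro z
      obtain ⟨x, rfl⟩ := hπ z
      exact ⟨Van.qxMap 𝒜 X 1 y hy.1 x, hπ' x⟩
    have hker' : LinearMap.ker π' =
        Ideal.ofList ys • (⊤ : Submodule R (Van.Qx 𝒜 X 1 y hy.1).carrier) := by
      apply le_antisymm
      · intro x' hx'
        obtain ⟨x, rfl⟩ := Van.qxMap_surjective 𝒜 X 1 y hy.1 x'
        have h1 : x ∈ LinearMap.ker π := by
          rw [LinearMap.mem_ker, ← hπ']
          exact hx'
        rw [hker] at h1
        exact map_mem_ofList_smul _ y ys hπ0 x h1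
      · rw [Submodule.smul_le]
        intro r hr x' _
        obtain ⟨x, rfl⟩ := Van.qxMap_surjective 𝒜 X 1 y hy.1 x'
        rw [LinearMap.mem_ker, map_smul, hπ', ← map_smul]
        have h1 : r • x ∈ LinearMap.ker π := by
          rw [hker, Ideal.ofList_cons_smul]
          exact Submodule.mem_sup_right (Submodule.smul_mem_smul hr Submodule.mem_top)
        exact h1
    have hIH := ih (Van.Qx 𝒜 X 1 y hy.1) Y π' (fun y' hy' => hys y' (List.mem_cons_of_mem _ hy'))
      hreg' hπ'g hπ's hker'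
    rw [← hIH]
    exact ⟨sRegG_quot 𝒜 a X y hy.1 hreg.1 d, sRegG_of_quot 𝒜 a X y hy.1 hy.2 hreg.1 d⟩

end RegSeq

end Groth.Agent.Lib.Helper6.CMReg
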