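import Mathlib
import Groth.Prelude.Def_GrLC
import Groth.Prelude.Def_GrSyz
import Groth.Prelude.Def_Wider
import Groth.Agent.Lib.Helper9.GrLC.Trans
import Groth.Agent.Lib.Helper9.GrLC.Reg
import Groth.Agent.S15419
import Groth.Agent.Lib.Helper6.CMReg.CRh
import Groth.Agent.Lib.Helper6.CMReg.CRn
import Groth.Agent.Lib.Helper6.CMReg.CRo

set_option autoImplicit false
set_option linter.unusedSectionVars false
set_option linter.unusedVariables false
set_option linter.unusedSimpArgs false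
set_option linter.style.haveILetI false
set_option maxHeartbeats 400000

/-!
# Regularity over polynomial rings: quotients by linear forms and modules of finite length
-/

universe u

namespace Groth.Agent.Lib.Helper6.CMReg

open CategoryTheory DirectSum Groth.Agent.Helper9.GrLCLib Groth.Agent.Helper8.LC

/-- an infimum of integers along an upward closed predicate -/
lemma iInf_coe_le_iff (Q : ℤ → Prop) (hQ : ∀ r s : ℤ, r ≤ s → Q r → Q s) (d : ℤ) :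
    (⨅ (r : ℤ) (_ : Q r), ((r : WithTop ℤ) : WithBot (WithTop ℤ))) ≤
      ((d : WithTop ℤ) : WithBot (WithTop ℤ)) ↔ Q d := by
  constructor
  · intro h
    by_contra hnot
    have h1 : (((d + 1 : ℤ) : WithTop ℤ) : WithBot (WithTop ℤ)) ≤
        ⨅ (r : ℤ) (_ : Q r), ((r : WithTop ℤ) : WithBot (WithTop ℤ)) := by
      apply le_iInf₂
      intro r hr
      have h2 : d + 1 ≤ r := by
        by_contra h3
        exact hnot (hQ r d (by omega) hr)
      exact WithBot.coe_le_coe.mpr (WithTop.coe_le_coe.mpr h2)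
    have h4 := WithTop.coe_le_coe.mp (WithBot.coe_le_coe.mp (h1.trans h))
    omega
  · intro h
    exact iInf₂_le (f := fun (r : ℤ) (_ : Q r) => ((r : WithTop ℤ) : WithBot (WithTop ℤ))) d h

section Main

variable (k : Type u) [Field k] (n : ℕ)
variable {M : Type u} [AddCommGroup M] [Module k M] [Module (MvPolynomial (Fin n) k) M]
  (ℳ : ℤ → Submodule k M) [DirectSum.Decomposition ℳ]
  [SetLike.GradedSMul (GrSyz.stdGr k (Fin n)) ℳ]

local notation "S" => MvPolynomial (Fin n) k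
local notation "𝒜₀" => GrSyz.stdGr k (Fin n)
local notation "𝔪₀" => GrSyz.irrel (GrSyz.stdGr k (Fin n))

lemma sReg_mono (d d' : ℤ) (h : d ≤ d') (hd : SReg k n ℳ d) : SReg k n ℳ d' :=
  fun q k' hk' => hd q k' (by omega)

/-- the regularity is at most `d` iff the module is strongly `d`-regular in local cohomology -/
theorem reg_le_iff (F : GrSyz.FreeRes 𝒜₀ ℳ) (hF : F.IsMinimal (𝔪₀).toIdeal) (d : ℤ) :
    GrSyz.reg 𝒜₀ ℳ (𝔪₀).toIdeal ≤ ((d : WithTop ℤ) : WithBot (WithTop ℤ)) ↔ SReg k n ℳ d := by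
  have key : ∀ r : ℤ, GrSyz.IsRegLE 𝒜₀ ℳ (𝔪₀).toIdeal r ↔ SReg k n ℳ r := by
    intro r
    constructor
    · rintro ⟨F', hF', hgen⟩
      exact (isGenLE_iff_sReg k n ℳ F' hF' r).mp hgen
    · intro h
      exact ⟨F, hF, (isGenLE_iff_sReg k n ℳ F hF r).mpr h⟩
  have h1 : GrSyz.reg 𝒜₀ ℳ (𝔪₀).toIdeal =
      ⨅ (r : ℤ) (_ : SReg k n ℳ r), ((r : WithTop ℤ) : WithBot (WithTop ℤ)) := by
    unfold GrSyz.reg
    apply iInf_congr
    intro r
    rw [key r]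
  rw [h1]
  exact iInf_coe_le_iff (SReg k n ℳ) (fun r s hrs => sReg_mono k n ℳ r s hrs) d

/-- a module of finite length is torsion for the irrelevant ideal -/
lemma isPowerTorsion_of_isFiniteLength [Module.Finite S M] (hM : IsFiniteLength S M) :
    LocCoh.IsPowerTorsion (Trans.idealToAG 𝒜₀ 𝔪₀).toIdeal (XM k n ℳ).carrier := by
  have hpos : ∀ i : ℤ, i < 0 → Trans.toAG 𝒜₀ i = ⊥ :=
    Groth.Agent.S15419.Aux.toAG_stdGr_neg k (Fin n)
  have ha := Groth.Agent.S15419.Aux.irrel_toAG 𝒜₀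
  haveI hart : IsArtinian S M := (isFiniteLength_iff_isNoetherian_isArtinian.mp hM).2
  exact Reg.isPowerTorsion_of_isArtinian (Trans.toAG 𝒜₀) hpos (Trans.toAG ℳ) _ ha

/-- strong regularity of a module of finite length -/
theorem sReg_iff_of_finiteLength [Module.Finite S M] (hM : IsFiniteLength S M) (d : ℤ) :
    SReg k n ℳ d ↔ GrLC.endDeg (fun i => (ℳ i).toAddSubgroup) ≤
      ((d : WithTop ℤ) : WithBot (WithTop ℤ)) := by
  have h1 : SReg k n ℳ d ↔ ∀ k' : ℤ, d < k' → ∀ x ∈ (XM k n ℳ).gr k', x = 0 :=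
    sRegG_torsion_iff (Trans.toAG 𝒜₀) (Trans.idealToAG 𝒜₀ 𝔪₀) (XM k n ℳ)
      (isPowerTorsion_of_isFiniteLength k n ℳ hM) d
  rw [h1, endDeg_le_iff]
  constructor
  · intro h k' hk'
    rw [AddSubgroup.eq_bot_iff_forall]
    intro x hx
    exact h k' hk' x hx
  · intro h k' hk' x hx
    have h2 := h k' hk'
    rw [AddSubgroup.eq_bot_iff_forall] at h2
    exact h2 x hx

/-- the statement of S15422, given a minimal resolution -/
theorem main_15422 [Module.Finite S M] (F : GrSyz.FreeRes 𝒜₀ ℳ) (hF : F.IsMinimal (𝔪₀).toIdeal)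
    (hM : IsFiniteLength S M) :
    GrSyz.reg 𝒜₀ ℳ (𝔪₀).toIdeal = GrLC.endDeg (fun i => (ℳ i).toAddSubgroup) := by
  apply eq_of_forall_le_coe_iff
  intro d
  rw [reg_le_iff k n ℳ F hF d, sReg_iff_of_finiteLength k n ℳ hM d]

variable {N : Type u} [AddCommGroup N] [Module k N] [Module (MvPolynomial (Fin n) k) N]
  (𝒩 : ℤ → Submodule k N) [DirectSum.Decomposition 𝒩]
  [SetLike.GradedSMul (GrSyz.stdGr k (Fin n)) 𝒩]

/-- the statement of S15425, given minimal resolutions -/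
theorem main_15425 [Module.Finite S M] [Module.Finite S N]
    (F : GrSyz.FreeRes 𝒜₀ ℳ) (hF : F.IsMinimal (𝔪₀).toIdeal)
    (ys : List S) (hys : ∀ y ∈ ys, y ∈ 𝒜₀ 1)
    (hreg : RingTheory.Sequence.IsWeaklyRegular M ys)
    (π : M →ₗ[S] N) (hπ : Function.Surjective π) (hπg : GrLC.IsGrHom ℳ 𝒩 π)
    (hker : LinearMap.ker π = Ideal.ofList ys • (⊤ : Submodule S M))
    (hN : IsFiniteLength S N) :
    GrSyz.reg 𝒜₀ ℳ (𝔪₀).toIdeal = GrLC.endDeg (fun i => (𝒩 i).toAddSubgroup) := by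
  apply eq_of_forall_le_coe_iff
  intro d
  rw [reg_le_iff k n ℳ F hF d, ← sReg_iff_of_finiteLength k n 𝒩 hN d]
  have hys' : ∀ y ∈ ys, y ∈ Trans.toAG 𝒜₀ 1 ∧ y ∈ (Trans.idealToAG 𝒜₀ 𝔪₀).toIdeal := by
    intro y hy
    have h1 : y ∈ Trans.toAG 𝒜₀ 1 := hys y hy
    refine ⟨h1, ?_⟩
    rw [irrel_hhom k n]
    exact Ideal.subset_span h1
  exact sRegG_iff_of_regular_sequence (Trans.toAG 𝒜₀) (Trans.idealToAG 𝒜₀ 𝔪₀) d ys
    (XM k n ℳ) (XM k n 𝒩) π hys' hreg hπg hπ hker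

/-- the torsion hypothesis for a quasi-regular linear form -/
lemma isPowerTorsion_KX [Module.Finite S M] (x : S) (hx' : x ∈ Trans.toAG 𝒜₀ 1)
    (hq : IsFiniteLength S ↥(Submodule.torsionBy S M x)) :
    LocCoh.IsPowerTorsion (Trans.idealToAG 𝒜₀ 𝔪₀).toIdeal
      (Reg.KX (Trans.toAG 𝒜₀) (XM k n ℳ) x hx').carrier := by
  have hpos : ∀ i : ℤ, i < 0 → Trans.toAG 𝒜₀ i = ⊥ :=
    Groth.Agent.S15419.Aux.toAG_stdGr_neg k (Fin n)
  have ha := Groth.Agent.S15419.Aux.irrel_toAG 𝒜₀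
  have e : Reg.kerX (Trans.toAG 𝒜₀) (XM k n ℳ) x = Submodule.torsionBy S M x := by
    ext m
    exact (Reg.mem_kerX _ _ x m).trans (Submodule.mem_torsionBy_iff x m).symm
  have hart : IsArtinian S ↥(Submodule.torsionBy S M x) :=
    (isFiniteLength_iff_isNoetherian_isArtinian.mp hq).2
  rw [← e] at hart
  have hfin : Module.Finite S ↥(Reg.kerX (Trans.toAG 𝒜₀) (XM k n ℳ) x) := by
    have : IsNoetherian S M := isNoetherian_of_isNoetherianRing_of_finite _ _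
    exact Module.Finite.of_injective
      (show ↥(Reg.kerX (Trans.toAG 𝒜₀) (XM k n ℳ) x) →ₗ[S] M from Submodule.subtype _)
      (Submodule.injective_subtype _)
  have hfin' : Module.Finite S (Reg.KX (Trans.toAG 𝒜₀) (XM k n ℳ) x hx').carrier := hfin
  have hart' : IsArtinian S (Reg.KX (Trans.toAG 𝒜₀) (XM k n ℳ) x hx').carrier := hart
  exact Reg.isPowerTorsion_of_isArtinian (Trans.toAG 𝒜₀) hpos
    (Reg.KX (Trans.toAG 𝒜₀) (XM k n ℳ) x hx').gr _ ha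

/-- strong regularity and a quasi-regular linear form -/
theorem sReg_iff_quot [Module.Finite S M] (x : S) (hx : x ∈ 𝒜₀ 1)
    (hq : IsFiniteLength S ↥(Submodule.torsionBy S M x))
    (π : M →ₗ[S] N) (hπ : Function.Surjective π) (hπg : GrLC.IsGrHom ℳ 𝒩 π)
    (hker : LinearMap.ker π = LinearMap.range (x • (LinearMap.id : M →ₗ[S] M)))
    (E : GrLC.StarInjRes 𝒜₀ ℳ) (d : ℤ) :
    SReg k n ℳ d ↔ (GrLC.endDeg (E.Hgr 𝔪₀ 0) ≤ ((d : WithTop ℤ) : WithBot (WithTop ℤ)) ∧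
      SReg k n 𝒩 d) := by
  have hx' : x ∈ Trans.toAG 𝒜₀ 1 := hx
  have hhom := irrel_hhom k n
  have hxa : x ∈ (Trans.idealToAG 𝒜₀ 𝔪₀).toIdeal := by
    rw [hhom]
    exact Ideal.subset_span hx'
  have hK := isPowerTorsion_KX k n ℳ x hx' hq
  rw [endDeg_le_iff_van 𝒜₀ ℳ E, sReg_iff_weak k n ℳ d, sReg_iff_weak k n 𝒩 d]
  constructor
  · rintro ⟨h0, hW⟩
    have h := reg_quot (Trans.toAG 𝒜₀) (Trans.idealToAG 𝒜₀ 𝔪₀) (XM k n ℳ) (XM k n 𝒩) x hx' hK
      π hπ hπg hker hhom d h0 hW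
    exact ⟨h0, h⟩
  · rintro ⟨h0, hY0, hYW⟩
    have h := reg_of_quot (Trans.toAG 𝒜₀) (Trans.idealToAG 𝒜₀ 𝔪₀) (XM k n ℳ) (XM k n 𝒩) x hx' hK
      π hπ hπg hker hhom hxa d hY0 hYW
    exact ⟨h0, h⟩

/-- the statement of S15421, given minimal resolutions -/
theorem main_15421 [Module.Finite S M] (F : GrSyz.FreeRes 𝒜₀ ℳ) (hF : F.IsMinimal (𝔪₀).toIdeal)
    (F' : GrSyz.FreeRes 𝒜₀ 𝒩) (hF' : F'.IsMinimal (𝔪₀).toIdeal)
    (x : S) (hx : x ∈ 𝒜₀ 1)
    (hq : IsFiniteLength S ↥(Submodule.torsionBy S M x))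
    (π : M →ₗ[S] N) (hπ : Function.Surjective π) (hπg : GrLC.IsGrHom ℳ 𝒩 π)
    (hker : LinearMap.ker π = LinearMap.range (x • (LinearMap.id : M →ₗ[S] M)))
    (E : GrLC.StarInjRes 𝒜₀ ℳ) :
    GrSyz.reg 𝒜₀ ℳ (𝔪₀).toIdeal =
      GrLC.endDeg (E.Hgr 𝔪₀ 0) ⊔ GrSyz.reg 𝒜₀ 𝒩 (𝔪₀).toIdeal := by
  apply eq_of_forall_le_coe_iff
  intro d
  rw [reg_le_iff k n ℳ F hF d, sup_le_iff, reg_le_iff k n 𝒩 F' hF' d]
  exact sReg_iff_quot k n ℳ 𝒩 x hx hq π hπ hπg hker E d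

end Main

end Groth.Agent.Lib.Helper6.CMReg
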