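import Mathlib
import Groth.Prelude.Def_GrLC
import Groth.Prelude.Def_GrSyz
import Groth.Prelude.Def_Wider
import Groth.Agent.Lib.Helper9.GrLC.Trans
import Groth.Agent.Lib.Helper6.CMReg.CRj
import Groth.Agent.Lib.Helper6.CMReg.CRn
import Groth.Agent.Lib.Helper6.CMReg.CRp

set_option autoImplicit false
set_option linter.unusedSectionVars false
set_option linter.unusedVariables false
set_option linter.unusedSimpArgs false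
set_option linter.style.haveILetI false
set_option maxHeartbeats 400000

/-!
# Regularity in short exact sequences over polynomial rings
-/

universe u

namespace Groth.Agent.Lib.Helper6.CMReg

open CategoryTheory DirectSum Groth.Agent.Helper9.GrLCLib Groth.Agent.Helper8.LC

section Main

variable (k : Type u) [Field k] (n : ℕ)

local notation "S" => MvPolynomial (Fin n) k
local notation "𝒜₀" => GrSyz.stdGr k (Fin n)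
local notation "𝔪₀" => GrSyz.irrel (GrSyz.stdGr k (Fin n))

section One

variable {M : Type u} [AddCommGroup M] [Module k M] [Module (MvPolynomial (Fin n) k) M]
  (ℳ : ℤ → Submodule k M) [DirectSum.Decomposition ℳ]
  [SetLike.GradedSMul (GrSyz.stdGr k (Fin n)) ℳ]

/-- regularity in the sense of resolutions is strong regularity in local cohomology -/
theorem isRegLE_iff_sReg (F : GrSyz.FreeRes 𝒜₀ ℳ) (hF : F.IsMinimal (𝔪₀).toIdeal) (r : ℤ) :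
    GrSyz.IsRegLE 𝒜₀ ℳ (𝔪₀).toIdeal r ↔ SReg k n ℳ r := by
  constructor
  · rintro ⟨F', hF', hgen⟩
    exact (isGenLE_iff_sReg k n ℳ F' hF' r).mp hgen
  · intro h
    exact ⟨F, hF, (isGenLE_iff_sReg k n ℳ F hF r).mpr h⟩

end One

variable {M₁ : Type u} [AddCommGroup M₁] [Module k M₁] [Module (MvPolynomial (Fin n) k) M₁]
  (ℳ₁ : ℤ → Submodule k M₁) [DirectSum.Decomposition ℳ₁]
  [SetLike.GradedSMul (GrSyz.stdGr k (Fin n)) ℳ₁]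
variable {M₂ : Type u} [AddCommGroup M₂] [Module k M₂] [Module (MvPolynomial (Fin n) k) M₂]
  (ℳ₂ : ℤ → Submodule k M₂) [DirectSum.Decomposition ℳ₂]
  [SetLike.GradedSMul (GrSyz.stdGr k (Fin n)) ℳ₂]
variable {M₃ : Type u} [AddCommGroup M₃] [Module k M₃] [Module (MvPolynomial (Fin n) k) M₃]
  (ℳ₃ : ℤ → Submodule k M₃) [DirectSum.Decomposition ℳ₃]
  [SetLike.GradedSMul (GrSyz.stdGr k (Fin n)) ℳ₃]

/-- strong regularity in a short exact sequence -/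
theorem sReg_ses (f : M₁ →ₗ[S] M₂) (g : M₂ →ₗ[S] M₃)
    (hf : Function.Injective f) (hg : Function.Surjective g)
    (hfg : LinearMap.range f = LinearMap.ker g)
    (hfgr : GrLC.IsGrHom ℳ₁ ℳ₂ f) (hggr : GrLC.IsGrHom ℳ₂ ℳ₃ g) (r : ℤ) :
    (SReg k n ℳ₂ r → SReg k n ℳ₃ (r - 1) → SReg k n ℳ₁ r) ∧
    (SReg k n ℳ₁ r → SReg k n ℳ₃ r → SReg k n ℳ₂ r) ∧
    (SReg k n ℳ₁ (r + 1) → SReg k n ℳ₂ r → SReg k n ℳ₃ r) := by
  have h : g ∘ₗ f = 0 := by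
    ext x
    have h1 : f x ∈ LinearMap.ker g := hfg ▸ LinearMap.mem_range_self f x
    exact h1
  have hS : (sesOf f g h).ShortExact := sesOf_shortExact f g h hf hg hfg.symm
  refine ⟨?_, ?_, ?_⟩
  · intro h2 h3 q k' hk'
    cases q with
    | zero =>
      exact van_left_zero (Trans.toAG 𝒜₀) (Trans.idealToAG 𝒜₀ 𝔪₀) (XM k n ℳ₁) (XM k n ℳ₂) f hfgr hf k' (h2 0 k' hk')
    | succ q =>
      refine van_left (Trans.toAG 𝒜₀) (Trans.idealToAG 𝒜₀ 𝔪₀) (XM k n ℳ₁) (XM k n ℳ₂) (XM k n ℳ₃) f g h hS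
        hfgr hggr q k' (h2 (q + 1) k' hk') (h3 q k' ?_)
      push_cast at hk'
      omega
  · intro h1 h3 q k' hk'
    exact van_mid (Trans.idealToAG 𝒜₀ 𝔪₀) (XM k n ℳ₁) (XM k n ℳ₂) (XM k n ℳ₃) f g h hS
      hfgr hggr q k' (h1 q k' hk') (h3 q k' hk')
  · intro h1 h2 q k' hk'
    refine van_right (Trans.idealToAG 𝒜₀ 𝔪₀) (XM k n ℳ₁) (XM k n ℳ₂) (XM k n ℳ₃) f g h hS
      hfgr hggr q k' (h2 q k' hk') (h1 (q + 1) k' ?_)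
    push_cast
    omega

/-- the statement of S15678, given minimal resolutions -/
theorem main_15678 (F₁ : GrSyz.FreeRes 𝒜₀ ℳ₁) (hF₁ : F₁.IsMinimal (𝔪₀).toIdeal)
    (F₂ : GrSyz.FreeRes 𝒜₀ ℳ₂) (hF₂ : F₂.IsMinimal (𝔪₀).toIdeal)
    (F₃ : GrSyz.FreeRes 𝒜₀ ℳ₃) (hF₃ : F₃.IsMinimal (𝔪₀).toIdeal)
    (f : M₁ →ₗ[S] M₂) (g : M₂ →ₗ[S] M₃)
    (hf : Function.Injective f) (hg : Function.Surjective g)
    (hfg : LinearMap.range f = LinearMap.ker g)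
    (hfgr : GrLC.IsGrHom ℳ₁ ℳ₂ f) (hggr : GrLC.IsGrHom ℳ₂ ℳ₃ g) (r : ℤ) :
    (GrSyz.IsRegLE 𝒜₀ ℳ₂ (𝔪₀).toIdeal r → GrSyz.IsRegLE 𝒜₀ ℳ₃ (𝔪₀).toIdeal (r - 1) →
      GrSyz.IsRegLE 𝒜₀ ℳ₁ (𝔪₀).toIdeal r) ∧
    (GrSyz.IsRegLE 𝒜₀ ℳ₁ (𝔪₀).toIdeal r → GrSyz.IsRegLE 𝒜₀ ℳ₃ (𝔪₀).toIdeal r →
      GrSyz.IsRegLE 𝒜₀ ℳ₂ (𝔪₀).toIdeal r) ∧
    (GrSyz.IsRegLE 𝒜₀ ℳ₁ (𝔪₀).toIdeal (r + 1) → GrSyz.IsRegLE 𝒜₀ ℳ₂ (𝔪₀).toIdeal r →
      GrSyz.IsRegLE 𝒜₀ ℳ₃ (𝔪₀).toIdeal r) := by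
  simp only [isRegLE_iff_sReg k n ℳ₁ F₁ hF₁, isRegLE_iff_sReg k n ℳ₂ F₂ hF₂,
    isRegLE_iff_sReg k n ℳ₃ F₃ hF₃]
  exact sReg_ses k n ℳ₁ ℳ₂ ℳ₃ f g hf hg hfg hfgr hggr r

end Main

end Groth.Agent.Lib.Helper6.CMReg
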