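import Mathlib

set_option autoImplicit false
set_option linter.unusedSectionVars false
set_option linter.unusedVariables false
set_option linter.unusedSimpArgs false
set_option linter.style.haveILetI false
set_option maxHeartbeats 400000

/-!
# Length over an augmented algebra versus length over the ground field

`S` is an algebra over a field `k` and `𝔪` an ideal with `S = k + 𝔪`.  For an `S`-module `N` all of
whose elements are killed by powers of `𝔪`, the length over `S` is at least the length over `k`.
-/

universe u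

namespace Groth.Agent.Lib.Helper6.CMReg

section Socle

variable {S : Type u} [CommRing S] (𝔪 : Ideal S) {N : Type u} [AddCommGroup N] [Module S N]

/-- a nonzero power torsion element has a nonzero multiple killed by the ideal -/
lemma exists_socle_of_ne_zero (x : N) (hx : x ≠ 0) (ht : ∃ i : ℕ, ∀ s ∈ 𝔪 ^ i, s • x = 0) :
    ∃ y : N, y ≠ 0 ∧ (∀ s ∈ 𝔪, s • y = 0) ∧ y ∈ Submodule.span S {x} := by
  classical
  have h0 : Nat.find ht ≠ 0 := by
    intro h0
    have h1 := Nat.find_spec ht
    rw [h0, pow_zero] at h1
    have h2 := h1 1 (by simp)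
    rw [one_smul] at h2
    exact hx h2
  obtain ⟨i', hi'⟩ := Nat.exists_eq_succ_of_ne_zero h0
  have h1 : ¬ ∀ s ∈ 𝔪 ^ i', s • x = 0 := Nat.find_min ht (by omega)
  push Not at h1
  obtain ⟨s, hs, hsx⟩ := h1
  refine ⟨s • x, hsx, ?_, Submodule.smul_mem _ _ (Submodule.mem_span_singleton_self x)⟩
  intro t ht'
  rw [smul_smul]
  apply Nat.find_spec ht
  rw [hi', Nat.succ_eq_add_one, pow_succ']
  exact Ideal.mul_mem_mul ht' hs

end Socle

section Length

variable (k S : Type u) [Field k] [CommRing S] [Algebra k S] (𝔪 : Ideal S)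

/-- the length over `S` dominates the length over `k` for power torsion modules -/
theorem natCast_le_length_of_le (h𝔪 : ∀ s : S, ∃ c : k, s - algebraMap k S c ∈ 𝔪) :
    ∀ (m : ℕ) (N : Type u) [AddCommGroup N] [Module k N] [Module S N] [IsScalarTower k S N],
      (∀ x : N, ∃ i : ℕ, ∀ s ∈ 𝔪 ^ i, s • x = 0) → (m : ℕ∞) ≤ Module.length k N →
      (m : ℕ∞) ≤ Module.length S N := by
  intro m
  induction m with
  | zero => intro N _ _ _ _ _ _; simp
  | succ m ih =>
    intro N _ _ _ _ htors hm
    have hnt : Nontrivial N := by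
      rw [← Module.length_pos_iff (R := k)]
      refine lt_of_lt_of_le ?_ hm
      simp
    obtain ⟨x, hx⟩ := exists_ne (0 : N)
    obtain ⟨y, hy0, hy𝔪, -⟩ := exists_socle_of_ne_zero 𝔪 x hx (htors x)
    let L : Submodule S N := Submodule.span S {y}
    have hyL : y ∈ L := Submodule.mem_span_singleton_self y
    -- every element of `L` is a scalar multiple of `y`
    have hL : ∀ z ∈ L, ∃ c : k, z = c • y := by
      intro z hz
      obtain ⟨s, rfl⟩ := Submodule.mem_span_singleton.mp hz
      obtain ⟨c, hc⟩ := h𝔪 s
      refine ⟨c, ?_⟩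
      have h1 := hy𝔪 _ hc
      rw [sub_smul, sub_eq_zero, algebraMap_smul] at h1
      exact h1
    -- lengths over `S`
    have hS : Module.length S N = Module.length S L + Module.length S (N ⧸ L) :=
      Module.length_eq_add_of_exact L.subtype L.mkQ L.injective_subtype
        (Submodule.mkQ_surjective L) (LinearMap.exact_subtype_mkQ L)
    -- lengths over `k`
    have hk : Module.length k N = Module.length k L + Module.length k (N ⧸ L) :=
      Module.length_eq_add_of_exact (L.subtype.restrictScalars k) (L.mkQ.restrictScalars k)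
        L.injective_subtype (Submodule.mkQ_surjective L) (LinearMap.exact_subtype_mkQ L)
    have hkL : Module.length k L ≤ 1 := by
      have hsurj : Function.Surjective (LinearMap.toSpanSingleton k L ⟨y, hyL⟩) := by
        rintro ⟨z, hz⟩
        obtain ⟨c, hc⟩ := hL z hz
        refine ⟨c, ?_⟩
        apply Subtype.ext
        rw [LinearMap.toSpanSingleton_apply]
        exact hc.symm
      have h1 := Module.length_le_of_surjective (LinearMap.toSpanSingleton k L ⟨y, hyL⟩) hsurj
      have h2 : Module.length k k = 1 := by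
        rw [Module.length_eq_finrank, Module.finrank_self]
        rfl
      rw [h2] at h1
      exact h1
    have hSL : 1 ≤ Module.length S L := by
      have hntL : Nontrivial L :=
        ⟨⟨⟨y, hyL⟩, 0, fun h => hy0 (congrArg Subtype.val h)⟩⟩
      have := (Module.length_pos_iff (R := S) (M := L)).mpr hntL
      exact Order.one_le_iff_pos.mpr this
    -- the quotient
    have htors' : ∀ x : N ⧸ L, ∃ i : ℕ, ∀ s ∈ 𝔪 ^ i, s • x = 0 := by
      intro x
      obtain ⟨x, rfl⟩ := Submodule.mkQ_surjective L x
      obtain ⟨i, hi⟩ := htors x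
      refine ⟨i, fun s hs => ?_⟩
      rw [← map_smul, hi s hs, map_zero]
    have hm' : (m : ℕ∞) ≤ Module.length k (N ⧸ L) := by
      rw [hk] at hm
      have h1 : ((m + 1 : ℕ) : ℕ∞) ≤ 1 + Module.length k (N ⧸ L) :=
        hm.trans (add_le_add_left hkL _)
      rcases eq_or_ne (Module.length k (N ⧸ L)) ⊤ with htop | htop
      · rw [htop]
        exact le_top
      · lift Module.length k (N ⧸ L) to ℕ using htop with b hb
        have h2 : ((m + 1 : ℕ) : ℕ∞) ≤ ((1 + b : ℕ) : ℕ∞) := by
          push_cast
          exact h1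
        have h3 := Nat.cast_le.mp h2
        exact Nat.cast_le.mpr (by omega)
    have h4 := ih (N ⧸ L) htors' hm'
    rw [hS]
    calc ((m + 1 : ℕ) : ℕ∞) = 1 + (m : ℕ∞) := by push_cast; rw [add_comm]
      _ ≤ Module.length S L + Module.length S (N ⧸ L) := add_le_add hSL h4

/-- finite length over `S` gives finite dimension over `k`, bounded by the length -/
theorem finrank_le_of_length_eq (h𝔪 : ∀ s : S, ∃ c : k, s - algebraMap k S c ∈ 𝔪)
    (N : Type u) [AddCommGroup N] [Module k N] [Module S N] [IsScalarTower k S N]
    (htors : ∀ x : N, ∃ i : ℕ, ∀ s ∈ 𝔪 ^ i, s • x = 0) (ℓ : ℕ)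
    (hℓ : Module.length S N = (ℓ : ℕ∞)) :
    Module.Finite k N ∧ Module.finrank k N ≤ ℓ := by
  have key := natCast_le_length_of_le k S 𝔪 h𝔪
  have hne : Module.length k N ≠ ⊤ := by
    intro htop
    have h1 := key (ℓ + 1) N htors (by rw [htop]; exact le_top)
    rw [hℓ] at h1
    have h2 := Nat.cast_le.mp h1
    omega
  have hfl : IsFiniteLength k N := Module.length_ne_top_iff.mp hne
  have hN : IsNoetherian k N := (isFiniteLength_iff_isNoetherian_isArtinian.mp hfl).1
  have hfin : Module.Finite k N := inferInstance
  refine ⟨hfin, ?_⟩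
  have h1 := key (Module.finrank k N) N htors (by rw [Module.length_eq_finrank])
  rw [hℓ] at h1
  exact Nat.cast_le.mp h1

end Length

end Groth.Agent.Lib.Helper6.CMReg
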