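import Mathlib
import Groth.Prelude.Def_GrLC
import Groth.Agent.Lib.Helper9.GrLC.Basic

set_option autoImplicit false
set_option linter.unusedSectionVars false
set_option linter.unusedVariables false
set_option linter.unusedSimpArgs false
set_option linter.style.haveILetI false
set_option maxHeartbeats 400000

/-!
# Cyclic graded modules over standard graded rings have no gaps; a dimension count
-/

universe u

namespace Groth.Agent.Lib.Helper6.CMReg

open DirectSum Groth.Agent.Helper9.GrLCLib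

section NoGaps

variable {R : Type u} [CommRing R] (𝒜 : ℤ → AddSubgroup R) [GradedRing 𝒜]
variable {M : Type u} [AddCommGroup M] [Module R M] (ℳ : ℤ → AddSubgroup M)
  [DirectSum.Decomposition ℳ] [SetLike.GradedSMul 𝒜 ℳ]
variable {N : Type u} [AddCommGroup N] [Module R N] (𝒩 : ℤ → AddSubgroup N)
  [DirectSum.Decomposition 𝒩] [SetLike.GradedSMul 𝒜 𝒩]

/-- a graded surjection is surjective on pieces -/
lemma exists_mem_of_surjective_isGrHom (τ : M →ₗ[R] N) (hτ : Function.Surjective τ)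
    (hτg : GrLC.IsGrHom ℳ 𝒩 τ) (i : ℤ) (z : N) (hz : z ∈ 𝒩 i) : ∃ m ∈ ℳ i, τ m = z := by
  obtain ⟨m, rfl⟩ := hτ z
  refine ⟨proj ℳ i m, proj_mem ℳ i m, ?_⟩
  rw [← proj_map_of_isGrHom ℳ 𝒩 hτg m i]
  exact proj_of_mem_same 𝒩 hz

/-- a cyclic graded module over a standard graded ring: a vanishing piece forces the next one to vanish -/
lemma piece_succ_eq_zero
    (hstd : ∀ i : ℤ, 0 < i → ∀ s ∈ 𝒜 i, s ∈ Ideal.span ((𝒜 1 : AddSubgroup R) : Set R))
    (τ : R →ₗ[R] N) (hτ : Function.Surjective τ) (hτg : GrLC.IsGrHom 𝒜 𝒩 τ) (i : ℤ) (hi : 0 ≤ i)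
    (h : ∀ z ∈ 𝒩 i, z = 0) : ∀ z ∈ 𝒩 (i + 1), z = 0 := by
  intro z hz
  obtain ⟨s, hs, rfl⟩ := exists_mem_of_surjective_isGrHom 𝒜 𝒩 τ hτ hτg (i + 1) z hz
  have hspan := hstd (i + 1) (by omega) s hs
  obtain ⟨n, f, g, hfg⟩ := Submodule.mem_span_set'.mp hspan
  have h1 : proj 𝒜 (i + 1) s = s := proj_of_mem_same 𝒜 hs
  rw [← h1, ← hfg, map_sum, map_sum]
  apply Finset.sum_eq_zero
  intro l _
  have hg : ((g l : R)) ∈ 𝒜 1 := (g l).2
  have h2 : f l • (g l : R) = (g l : R) • f l := by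
    rw [smul_eq_mul, smul_eq_mul, mul_comm]
  rw [h2, proj_smul_of_mem' 𝒜 𝒜 hg (f l) (i + 1), map_smul]
  have h3 : τ (proj 𝒜 (i + 1 - 1) (f l)) = 0 := by
    apply h
    have h4 : i + 1 - 1 = i := by ring
    rw [h4]
    exact hτg i _ (proj_mem 𝒜 i (f l))
  rw [h3, smul_zero]

/-- no gaps -/
lemma piece_eq_zero_of_le
    (hstd : ∀ i : ℤ, 0 < i → ∀ s ∈ 𝒜 i, s ∈ Ideal.span ((𝒜 1 : AddSubgroup R) : Set R))
    (τ : R →ₗ[R] N) (hτ : Function.Surjective τ) (hτg : GrLC.IsGrHom 𝒜 𝒩 τ) (i : ℤ) (hi : 0 ≤ i)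
    (h : ∀ z ∈ 𝒩 i, z = 0) (j : ℤ) (hij : i ≤ j) : ∀ z ∈ 𝒩 j, z = 0 := by
  induction j, hij using Int.leInduction with
  | base => exact h
  | succ j hj ih => exact piece_succ_eq_zero 𝒜 𝒩 hstd τ hτ hτg j (by omega) ih

end NoGaps

section Count

variable {k : Type u} [Field k] {N : Type u} [AddCommGroup N] [Module k N] [Module.Finite k N]
  (𝒩 : ℤ → Submodule k N) [DirectSum.Decomposition 𝒩]

/-- the index function avoiding `1` -/
def skipOne (j : ℕ) (a : Fin j) : ℤ := if (a : ℕ) = 0 then 0 else (a : ℕ) + 1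

lemma skipOne_injective (j : ℕ) : Function.Injective (skipOne j) := by
  intro a b h
  unfold skipOne at h
  apply Fin.ext
  split_ifs at h with h1 h2 h2 <;> omega

lemma skipOne_ne_one (j : ℕ) (a : Fin j) : skipOne j a ≠ 1 := by
  unfold skipOne
  split_ifs <;> omega

lemma skipOne_range (j : ℕ) (a : Fin j) : 0 ≤ skipOne j a ∧ skipOne j a ≤ j := by
  unfold skipOne
  have := a.2
  split_ifs <;> constructor <;> omega

/-- a count of dimensions: the pieces in degrees `0, 2, …, j` are nonzero -/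
theorem add_finrank_piece_one_le (j : ℕ)
    (hne : ∀ i : ℤ, 0 ≤ i → i ≤ j → i ≠ 1 → 𝒩 i ≠ ⊥) :
    j + Module.finrank k ↥(𝒩 1) ≤ Module.finrank k N := by
  classical
  have hindep : iSupIndep 𝒩 :=
    (DirectSum.Decomposition.isInternal 𝒩).submodule_iSupIndep
  have hex : ∀ a : Fin j, ∃ v : N, v ∈ 𝒩 (skipOne j a) ∧ v ≠ 0 := by
    intro a
    have h1 := hne (skipOne j a) (skipOne_range j a).1 (skipOne_range j a).2 (skipOne_ne_one j a)
    obtain ⟨v, hv, hv0⟩ := (Submodule.ne_bot_iff _).mp h1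
    exact ⟨v, hv, hv0⟩
  choose v hv hv0 using hex
  have hli : LinearIndependent k v :=
    iSupIndep.linearIndependent (fun a : Fin j => 𝒩 (skipOne j a))
      (hindep.comp (skipOne_injective j)) hv hv0
  have hW : Module.finrank k ↥(Submodule.span k (Set.range v)) = j := by
    rw [finrank_span_eq_card hli, Fintype.card_fin]
  have hle : Submodule.span k (Set.range v) ≤ ⨆ (i : ℤ) (_ : i ≠ 1), 𝒩 i := by
    rw [Submodule.span_le]
    rintro _ ⟨a, rfl⟩
    exact (le_iSup₂ (f := fun (i : ℤ) (_ : i ≠ 1) => 𝒩 i) (skipOne j a) (skipOne_ne_one j a)) (hv a)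
  have hdis : Disjoint (Submodule.span k (Set.range v)) (𝒩 1) :=
    ((hindep 1).mono_right hle).symm
  have h1 := Submodule.finrank_add_finrank_le_of_disjoint hdis
  rw [hW] at h1
  exact h1

end Count

end Groth.Agent.Lib.Helper6.CMReg
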