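import Mathlib
import Groth.Prelude.Def_GrLC
import Groth.Prelude.Def_GrSyz
import Groth.Prelude.Def_Wider
import Groth.Agent.Lib.Helper9.GrLC.Trans
import Groth.Agent.Lib.Helper9.GrLC.Basic
import Groth.Agent.Lib.Helper9.GrMod.Unique
import Groth.Agent.S15427
import Groth.Agent.Lib.Helper6.CMReg.CRp
import Groth.Agent.Lib.Helper6.CMReg.CRr
import Groth.Agent.Lib.Helper6.CMReg.CRs

set_option autoImplicit false
set_option linter.unusedSectionVars false
set_option linter.unusedVariables false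
set_option linter.unusedSimpArgs false
set_option linter.style.haveILetI false
set_option maxHeartbeats 400000

/-!
# Regularity of a quotient of the polynomial ring without linear relations is at most
`length − codimension`
-/

universe u

namespace Groth.Agent.Lib.Helper6.CMReg

open CategoryTheory DirectSum Groth.Agent.Helper9.GrLCLib Groth.Agent.Helper8.LC
open scoped Pointwise

section Main

variable (k : Type u) [Field k] (n : ℕ)

local notation "S" => MvPolynomial (Fin n) k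
local notation "𝒜₀" => GrSyz.stdGr k (Fin n)
local notation "𝔪₀" => GrSyz.irrel (GrSyz.stdGr k (Fin n))

/-- the polynomial ring is the ground field plus the irrelevant ideal -/
lemma irrel_aug : ∀ s : S, ∃ c : k, s - algebraMap k S c ∈ (𝔪₀).toIdeal := by
  intro s
  refine ⟨MvPolynomial.constantCoeff s, ?_⟩
  rw [Groth.Agent.Helper9.GrMod.mem_irrel_iff, map_sub, MvPolynomial.algebraMap_eq,
    MvPolynomial.constantCoeff_C, sub_self]

/-- the degree zero piece consists of the constants -/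
lemma eq_C_of_mem_zero (p : S) (hp : p ∈ 𝒜₀ 0) :
    p = MvPolynomial.C (MvPolynomial.coeff 0 p) := by
  classical
  ext m
  rw [MvPolynomial.coeff_C]
  by_cases hm0 : m = 0
  · subst hm0; simp
  · rw [if_neg (Ne.symm hm0)]
    by_contra hne
    have := hp hne
    have := Groth.Agent.S15427.Aux.weight_pos m hm0
    omega

/-- the standard grading is standard -/
lemma stdGr_hstd : ∀ i : ℤ, 0 < i → ∀ s ∈ Trans.toAG 𝒜₀ i,
    s ∈ Ideal.span ((Trans.toAG 𝒜₀ 1 : AddSubgroup S) : Set S) := by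
  intro i hi s hs
  rw [← irrel_hhom k n, Groth.Agent.S15419.Aux.irrel_toAG 𝒜₀]
  apply Ideal.subset_span
  simp only [Set.mem_iUnion, Set.mem_Ioi, SetLike.mem_coe, exists_prop]
  exact ⟨i, hi, hs⟩

variable {M : Type u} [AddCommGroup M] [Module k M] [Module (MvPolynomial (Fin n) k) M]
  [IsScalarTower k (MvPolynomial (Fin n) k) M]
  (ℳ : ℤ → Submodule k M) [DirectSum.Decomposition ℳ]
  [SetLike.GradedSMul (GrSyz.stdGr k (Fin n)) ℳ]

section Cyclic

variable (π : MvPolynomial (Fin n) k →ₗ[MvPolynomial (Fin n) k] M) (hπ : Function.Surjective π)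
  (hπg : GrLC.IsGrHom (GrSyz.stdGr k (Fin n)) ℳ π)

include hπ hπg in
/-- the degree zero piece of a cyclic module -/
lemma exists_C_of_mem_zero (m₀ : M) (hm₀ : m₀ ∈ ℳ 0) : ∃ c : k, m₀ = π (MvPolynomial.C c) := by
  obtain ⟨s, hs, rfl⟩ := exists_mem_of_surjective_isGrHom (Trans.toAG 𝒜₀) (Trans.toAG ℳ) π hπ hπg
    0 m₀ hm₀
  exact ⟨MvPolynomial.coeff 0 s, by rw [← eq_C_of_mem_zero k n s hs]⟩

include hπ hπg in
/-- the degree one part of `(ys) M` comes from the span of the linear forms `ys` -/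
lemma proj_one_mem : ∀ ys : List S, (∀ y ∈ ys, y ∈ 𝒜₀ 1) →
    ∀ z ∈ Ideal.ofList ys • (⊤ : Submodule S M),
      proj (Trans.toAG ℳ) 1 z ∈ (Submodule.span k {y | y ∈ ys}).map (π.restrictScalars k) := by
  intro ys
  induction ys with
  | nil =>
    intro _ z hz
    rw [Ideal.ofList_nil, Submodule.bot_smul, Submodule.mem_bot] at hz
    rw [hz, map_zero]
    exact zero_mem _
  | cons y ys ih =>
    intro hys z hz
    rw [Ideal.ofList_cons_smul] at hz
    obtain ⟨z1, hz1, z2, hz2, rfl⟩ := Submodule.mem_sup.mp hz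
    rw [map_add]
    apply add_mem
    · obtain ⟨m, -, rfl⟩ := (Submodule.mem_smul_pointwise_iff_exists _ _ _).mp hz1
      have hy : y ∈ Trans.toAG 𝒜₀ 1 := hys y (List.mem_cons_self)
      rw [proj_smul_of_mem' (Trans.toAG 𝒜₀) (Trans.toAG ℳ) hy m 1]
      obtain ⟨c, hc⟩ := exists_C_of_mem_zero k n ℳ π hπ hπg _ (proj_mem (Trans.toAG ℳ) (1 - 1) m)
      rw [hc]
      refine ⟨c • y, Submodule.smul_mem _ c (Submodule.subset_span (List.mem_cons_self)), ?_⟩
      rw [LinearMap.restrictScalars_apply, ← map_smul, smul_eq_mul, MvPolynomial.smul_eq_C_mul,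
        mul_comm]
    · have h1 := ih (fun y' hy' => hys y' (List.mem_cons_of_mem _ hy')) z2 hz2
      refine Submodule.map_mono (Submodule.span_mono ?_) h1
      intro y' hy'
      exact List.mem_cons_of_mem _ hy'

variable (hlin : ∀ x : MvPolynomial (Fin n) k, x ∈ GrSyz.stdGr k (Fin n) 1 → π x = 0 → x = 0)

include hπ hπg hlin in
/-- linear forms mapping into `(ys) M` are combinations of the `ys` -/
lemma mem_span_of_map_mem (ys : List S) (hys : ∀ y ∈ ys, y ∈ 𝒜₀ 1) (x : S) (hx : x ∈ 𝒜₀ 1)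
    (h : π x ∈ Ideal.ofList ys • (⊤ : Submodule S M)) : x ∈ Submodule.span k {y | y ∈ ys} := by
  have h1 := proj_one_mem k n ℳ π hπ hπg ys hys (π x) h
  have h2 : proj (Trans.toAG ℳ) 1 (π x) = π x := proj_of_mem_same (Trans.toAG ℳ) (hπg 1 x hx)
  rw [h2] at h1
  obtain ⟨u, hu, hux⟩ := h1
  have hu1 : u ∈ 𝒜₀ 1 := by
    have : Submodule.span k {y | y ∈ ys} ≤ 𝒜₀ 1 := Submodule.span_le.mpr (fun y hy => hys y hy)
    exact this hu
  have h3 : x - u = 0 := by
    apply hlin _ (sub_mem hx hu1)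
    rw [map_sub, sub_eq_zero]
    exact hux.symm
  rw [sub_eq_zero] at h3
  rw [h3]
  exact hu

variable {N : Type u} [AddCommGroup N] [Module k N] [Module (MvPolynomial (Fin n) k) N]
  [IsScalarTower k (MvPolynomial (Fin n) k) N]
  (𝒩 : ℤ → Submodule k N) [DirectSum.Decomposition 𝒩]
  [SetLike.GradedSMul (GrSyz.stdGr k (Fin n)) 𝒩]
  (σ : M →ₗ[MvPolynomial (Fin n) k] N) (hσ : Function.Surjective σ) (hσg : GrLC.IsGrHom ℳ 𝒩 σ)

include hπ hπg hlin hσg in
/-- the piece of degree one of the quotient by linear forms is large -/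
theorem le_finrank_piece_one [Module.Finite k N] (ys : List S) (hys : ∀ y ∈ ys, y ∈ 𝒜₀ 1)
    (hker : LinearMap.ker σ = Ideal.ofList ys • (⊤ : Submodule S M)) :
    n ≤ Module.finrank k ↥(𝒩 1) + ys.length := by
  classical
  let ψ : (Fin n → k) →ₗ[k] S := Fintype.linearCombination k (fun i => (MvPolynomial.X i : S))
  have hψinj : Function.Injective ψ :=
    (MvPolynomial.linearIndependent_X (Fin n) k).fintypeLinearCombination_injective
  have hψ1 : ∀ c, ψ c ∈ 𝒜₀ 1 := by
    intro c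
    rw [Fintype.linearCombination_apply]
    apply Submodule.sum_mem
    intro i _
    apply Submodule.smul_mem
    exact MvPolynomial.isWeightedHomogeneous_X k (fun _ : Fin n => (1 : ℤ)) i
  let τ : S →ₗ[k] N := (σ ∘ₗ π).restrictScalars k
  let φ : (Fin n → k) →ₗ[k] N := τ ∘ₗ ψ
  have hrange : LinearMap.range φ ≤ 𝒩 1 := by
    rintro _ ⟨c, rfl⟩
    exact hσg 1 _ (hπg 1 _ (hψ1 c))
  have hkerφ : ∀ c ∈ LinearMap.ker φ, ψ c ∈ Submodule.span k {y | y ∈ ys} := by
    intro c hc
    apply mem_span_of_map_mem k n ℳ π hπ hπg hlin ys hys (ψ c) (hψ1 c)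
    rw [← hker, LinearMap.mem_ker]
    exact hc
  have hset : {y | y ∈ ys} = ((ys.toFinset : Finset S) : Set S) := by
    ext y
    simp
  have hfin : Module.Finite k ↥(Submodule.span k {y | y ∈ ys}) := by
    rw [hset]
    infer_instance
  let ι : ↥(LinearMap.ker φ) →ₗ[k] ↥(Submodule.span k {y | y ∈ ys}) :=
    (ψ ∘ₗ (LinearMap.ker φ).subtype).codRestrict _ (fun c => hkerφ c.1 c.2)
  have hιinj : Function.Injective ι := by
    intro c c' h
    apply Subtype.ext
    apply hψinj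
    exact congrArg Subtype.val h
  have h1 : Module.finrank k ↥(LinearMap.ker φ) ≤ ys.length := by
    refine (LinearMap.finrank_le_finrank_of_injective hιinj).trans ?_
    have h2 : Module.finrank k ↥(Submodule.span k {y | y ∈ ys}) ≤ ys.toFinset.card := by
      rw [hset]
      exact finrank_span_finset_le_card ys.toFinset
    exact h2.trans (List.toFinset_card_le ys)
  have h3 : Module.finrank k ↥(LinearMap.range φ) ≤ Module.finrank k ↥(𝒩 1) :=
    Submodule.finrank_mono hrange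
  have h4 := LinearMap.finrank_range_add_finrank_ker φ
  rw [Module.finrank_fin_fun] at h4
  omega

include hπ hπg hlin hσ hσg in
/-- the statement of S15433, given a minimal resolution -/
theorem main_15433 [Module.Finite (MvPolynomial (Fin n) k) M]
    (F : GrSyz.FreeRes 𝒜₀ ℳ) (hF : F.IsMinimal (𝔪₀).toIdeal)
    (ys : List S) (hys : ∀ y ∈ ys, y ∈ 𝒜₀ 1)
    (hreg : RingTheory.Sequence.IsWeaklyRegular M ys)
    (hker : LinearMap.ker σ = Ideal.ofList ys • (⊤ : Submodule S M))
    (ℓ : ℕ) (hℓ : Module.length S N = (ℓ : ℕ∞)) :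
    GrSyz.reg 𝒜₀ ℳ (𝔪₀).toIdeal +
      ((((n : ℤ) - (ys.length : ℤ) : ℤ) : WithTop ℤ) : WithBot (WithTop ℤ)) ≤
      (((ℓ : ℤ) : WithTop ℤ) : WithBot (WithTop ℤ)) := by
  haveI : Module.Finite S N := Module.Finite.of_surjective σ hσ
  have hN : IsFiniteLength S N :=
    Module.length_ne_top_iff.mp (by rw [hℓ]; exact ENat.natCast_ne_top ℓ)
  rw [main_15425 k n ℳ 𝒩 F hF ys hys hreg σ hσ hσg hker hN, endDeg_add_le_iff]
  intro j hj
  by_contra hne
  have hNj : 𝒩 j ≠ ⊥ := by
    intro h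
    apply hne
    show (𝒩 j).toAddSubgroup = ⊥
    rw [h]
    rfl
  have htors := isPowerTorsion_of_isFiniteLength k n 𝒩 hN
  obtain ⟨hfin, hle⟩ := finrank_le_of_length_eq k S (𝔪₀).toIdeal (irrel_aug k n) N htors ℓ hℓ
  haveI := hfin
  have h1 := le_finrank_piece_one k n ℳ π hπ hπg hlin 𝒩 σ hσg ys hys hker
  -- no gaps
  let τ : S →ₗ[S] N := σ ∘ₗ π
  have hτ : Function.Surjective τ := hσ.comp hπ
  have hτg : GrLC.IsGrHom (Trans.toAG 𝒜₀) (Trans.toAG 𝒩) τ :=
    fun i s hs => hσg i _ (hπg i s hs)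
  have hgap : ∀ i j' : ℤ, 0 ≤ i → i ≤ j' → 𝒩 j' ≠ ⊥ → 𝒩 i ≠ ⊥ := by
    intro i j' hi hij hj' h0
    apply hj'
    rw [Submodule.eq_bot_iff]
    intro z hz
    exact piece_eq_zero_of_le (Trans.toAG 𝒜₀) (Trans.toAG 𝒩) (stdGr_hstd k n) τ hτ hτg i hi
      (fun z hz => by
        have hz' : z ∈ 𝒩 i := hz
        rw [h0] at hz'
        exact (Submodule.mem_bot k).mp hz') j' hij z hz
  have hneg : ∀ i : ℤ, i < 0 → 𝒩 i = ⊥ := by
    intro i hi
    rw [Submodule.eq_bot_iff]
    intro z hz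
    obtain ⟨s, hs, rfl⟩ := exists_mem_of_surjective_isGrHom (Trans.toAG 𝒜₀) (Trans.toAG 𝒩) τ hτ hτg
      i z hz
    rw [Groth.Agent.S15419.Aux.toAG_stdGr_neg k (Fin n) i hi] at hs
    rw [AddSubgroup.mem_bot.mp hs, map_zero]
  have hj0 : 0 ≤ j := by
    by_contra hcon
    exact hNj (hneg j (by omega))
  have keyA : ∀ j' : ℕ, 1 ≤ j' → 𝒩 (j' : ℤ) ≠ ⊥ → (j' : ℤ) + n - ys.length ≤ ℓ := by
    intro j' hj'1 hj'
    have h2 := add_finrank_piece_one_le 𝒩 j' (fun i hi0 hij _ => hgap i j' hi0 hij hj')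
    omega
  obtain ⟨j', rfl⟩ := Int.eq_ofNat_of_zero_le hj0
  rcases Nat.eq_zero_or_pos j' with rfl | hpos
  · by_cases hc : (n : ℤ) - ys.length ≤ 0
    · push_cast at hj
      omega
    · have h11 : 𝒩 1 ≠ ⊥ := by
        intro h
        rw [h, finrank_bot] at h1
        omega
      have := keyA 1 le_rfl h11
      push_cast at this hj
      omega
  · have := keyA j' hpos hNj
    omega

end Cyclic

end Main

end Groth.Agent.Lib.Helper6.CMReg
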