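import Mathlib
import Groth.Prelude.Def_GrLC
import Groth.Prelude.Def_GrSyz
import Groth.Prelude.Def_CAlg
import Groth.Prelude.Def_Wider
import Groth.Agent.Lib.Helper9.GrLC.Pos
import Groth.Agent.Lib.Helper9.GrLC.AInv
import Groth.Agent.Lib.Helper9.GrHt.Main
import Groth.Agent.Lib.Helper8.Depth19
import Groth.Agent.Lib.Helper8.LC11
import Groth.Agent.Lib.Helper8.LC18
import Groth.Agent.Lib.Helper6.CMReg.CRe
import Groth.Agent.Lib.Helper6.CMReg.CRf
import Groth.Agent.Lib.Helper6.CMReg.CRg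

set_option autoImplicit false
set_option linter.unusedSectionVars false
set_option linter.unusedVariables false
set_option linter.unusedSimpArgs false
set_option linter.style.haveILetI false
set_option maxHeartbeats 400000

/-!
# The `a`-invariant of a standard graded Cohen–Macaulay ring is at least `- dim`
-/

universe u

namespace Groth.Agent.Lib.Helper6.CMReg

open CategoryTheory DirectSum Groth.Agent.Helper9.GrLCLib Groth.Agent.Helper8.LC
  Groth.Agent.Helper9 Groth.Agent.Helper8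

section Gam

variable {R : Type u} [CommRing R]

/-- the torsion functor only depends on the radical -/
lemma gam_eq_of_le_of_pow_le (a b : Ideal R) (hab : a ≤ b) (N : ℕ) (hN : b ^ N ≤ a)
    (X : Type u) [AddCommGroup X] [Module R X] : GrLC.gam a X = GrLC.gam b X := by
  ext x
  constructor
  · rintro ⟨n, hn⟩
    refine ⟨N * n, fun r hr => hn r ?_⟩
    rw [pow_mul] at hr
    exact Ideal.pow_right_mono hN n hr
  · rintro ⟨n, hn⟩
    exact ⟨n, fun r hr => hn r (Ideal.pow_right_mono hab n hr)⟩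

end Gam

section Res

variable {R : Type u} [CommRing R] [IsNoetherianRing R] {𝒜 : ℤ → AddSubgroup R} [GradedRing 𝒜]
variable {M : Type u} [AddCommGroup M] [Module R M] (ℳ : ℤ → AddSubgroup M)
  [DirectSum.Decomposition ℳ] [SetLike.GradedSMul 𝒜 ℳ]

/-- elementwise description of the vanishing of a piece of graded local cohomology -/
lemma hcomp_eq_bot_iff_forall (E : GrLC.StarInjRes 𝒜 ℳ) (a : HomogeneousIdeal 𝒜) (i : ℕ) (g : ℤ) :
    E.Hcomp a i g = ⊥ ↔ ∀ z ∈ E.cocyc a i, z ∈ (E.X i).gr g → z ∈ E.cobdy a i := by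
  rw [Submodule.eq_bot_iff]
  constructor
  · intro h z hz hzg
    have h1 := h (E.toH a i ⟨z, hz⟩) ⟨⟨z, hz⟩, hzg, rfl⟩
    have h2 := (Submodule.Quotient.mk_eq_zero _).mp h1
    exact h2
  · rintro h x ⟨z, hzg, rfl⟩
    exact (Submodule.Quotient.mk_eq_zero _).mpr (h z.1 z.2 hzg)

/-- the pieces of graded local cohomology only depend on the torsion functor -/
lemma hcomp_eq_bot_iff_of_gam_eq (E : GrLC.StarInjRes 𝒜 ℳ) (a b : HomogeneousIdeal 𝒜)
    (hgam : ∀ (X : Type u) [AddCommGroup X] [Module R X],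
      GrLC.gam a.toIdeal X = GrLC.gam b.toIdeal X) (i : ℕ) (g : ℤ) :
    E.Hcomp a i g = ⊥ ↔ E.Hcomp b i g = ⊥ := by
  have h1 : E.cocyc a i = E.cocyc b i := by
    unfold GrLC.StarInjRes.cocyc
    rw [hgam]
  have h2 : E.cobdy a i = E.cobdy b i := by
    cases i with
    | zero => rfl
    | succ n =>
      show (GrLC.gam a.toIdeal (E.X n).carrier).map (E.d n) =
        (GrLC.gam b.toIdeal (E.X n).carrier).map (E.d n)
      rw [hgam]
  rw [hcomp_eq_bot_iff_forall, hcomp_eq_bot_iff_forall, h1, h2]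

/-- vanishing only depends on the torsion functor -/
lemma van_iff_of_gam_eq (E : GrLC.StarInjRes 𝒜 ℳ) (a b : HomogeneousIdeal 𝒜)
    (hgam : ∀ (X : Type u) [AddCommGroup X] [Module R X],
      GrLC.gam a.toIdeal X = GrLC.gam b.toIdeal X) (i : ℕ) (g : ℤ) :
    Van a (GrLC.GMod.of 𝒜 M ℳ) i g ↔ Van b (GrLC.GMod.of 𝒜 M ℳ) i g := by
  rw [van_iff_hcomp a ℳ E, van_iff_hcomp b ℳ E, ← hcomp_eq_bot_iff, ← hcomp_eq_bot_iff]
  exact hcomp_eq_bot_iff_of_gam_eq ℳ E a b hgam i g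

end Res

section StarLocal

variable {R : Type u} [CommRing R] [IsNoetherianRing R] (𝒜 : ℤ → AddSubgroup R) [GradedRing 𝒜]
  (hpos : ∀ n : ℤ, n < 0 → 𝒜 n = ⊥) (m : HomogeneousIdeal 𝒜) (hm : GrLC.IsStarLocal 𝒜 m)

lemma irrel_toIdeal : (GrSyz.irrel 𝒜).toIdeal =
    Ideal.span (⋃ n ∈ Set.Ioi (0 : ℤ), ((𝒜 n : AddSubgroup R) : Set R)) := by
  change Ideal.span {r : R | ∃ n : ℤ, 0 < n ∧ r ∈ 𝒜 n} = _
  congr 1
  ext r
  simp only [Set.mem_ofPred_eq, Set.mem_iUnion, Set.mem_Ioi, SetLike.mem_coe, exists_prop]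

include hpos in
lemma proj_zero_mul_of_pos (n : ℤ) (hn : 0 < n) (x : R) (hx : x ∈ 𝒜 n) (r : R) :
    proj 𝒜 0 (r * x) = 0 := by
  have h1 : r * x = x • r := by rw [smul_eq_mul, mul_comm]
  rw [h1, proj_smul_of_mem' 𝒜 𝒜 hx r 0]
  have h2 : proj 𝒜 (0 - n) r ∈ 𝒜 (0 - n) := proj_mem 𝒜 _ r
  rw [hpos (0 - n) (by omega), AddSubgroup.mem_bot] at h2
  rw [h2, smul_zero]

include hpos hm in
/-- the irrelevant ideal lies in the *maximal ideal -/
lemma irrel_le_of_isStarLocal : (GrSyz.irrel 𝒜).toIdeal ≤ m.toIdeal := by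
  have hmax : m.toIdeal.IsMaximal := Pos.isMaximal_of_isCoatom 𝒜 hpos m hm.1
  rw [irrel_toIdeal, Ideal.span_le]
  intro x hx
  simp only [Set.mem_iUnion, Set.mem_Ioi, SetLike.mem_coe, exists_prop] at hx
  obtain ⟨n, hn, hxn⟩ := hx
  by_contra hxm
  obtain ⟨y, i, hi, hyi⟩ := hmax.exists_inv hxm
  have h1 : proj 𝒜 0 (y * x + i) = proj 𝒜 0 1 := by rw [hyi]
  rw [map_add, proj_zero_mul_of_pos 𝒜 hpos n hn x hxn y, zero_add,
    proj_of_mem_same 𝒜 (SetLike.GradedOne.one_mem : (1 : R) ∈ 𝒜 0)] at h1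
  have h2 : proj 𝒜 0 i ∈ m.toIdeal := m.isHomogeneous 0 hi
  rw [h1] at h2
  exact hmax.ne_top ((Ideal.eq_top_iff_one _).mpr h2)

include hpos hm in
/-- elements of degree zero in the *maximal ideal are nilpotent when `R_0` is Artinian -/
lemma isNilpotent_of_mem_zero [IsArtinianRing (GrLC.deg0 𝒜)] (x : R) (hxm : x ∈ m.toIdeal)
    (hx0 : x ∈ 𝒜 0) : IsNilpotent x := by
  have hmax : m.toIdeal.IsMaximal := Pos.isMaximal_of_isCoatom 𝒜 hpos m hm.1
  let x' : GrLC.deg0 𝒜 := ⟨x, hx0⟩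
  have hjac : x' ∈ Ideal.jacobson (⊥ : Ideal (GrLC.deg0 𝒜)) := by
    rw [Ideal.mem_jacobson_bot]
    intro y'
    have hu0 : ((x' * y' + 1 : GrLC.deg0 𝒜) : R) ∈ 𝒜 0 := (x' * y' + 1).2
    have hum : ((x' * y' + 1 : GrLC.deg0 𝒜) : R) ∉ m.toIdeal := by
      intro h
      have h1 : (1 : R) = ((x' * y' + 1 : GrLC.deg0 𝒜) : R) - x * (y' : R) := by
        push_cast
        ring
      have h2 : (1 : R) ∈ m.toIdeal := by
        rw [h1]
        exact Ideal.sub_mem _ h (Ideal.mul_mem_right _ _ hxm)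
      exact hmax.ne_top ((Ideal.eq_top_iff_one _).mpr h2)
    set u : R := ((x' * y' + 1 : GrLC.deg0 𝒜) : R) with hu
    let J : HomogeneousIdeal 𝒜 := ⟨Ideal.span {u}, Ideal.homogeneous_span 𝒜 {u} (by
      rintro _ rfl
      exact ⟨0, hu0⟩)⟩
    have hJ : J = ⊤ := by
      by_contra hne
      exact hum (GrHt.le_of_isStarLocal 𝒜 m hm J hne (Ideal.subset_span rfl))
    have h1 : (1 : R) ∈ J.toIdeal := by
      rw [hJ]
      trivial
    obtain ⟨v, hv⟩ := Ideal.mem_span_singleton'.mp h1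
    have h2 : u * proj 𝒜 0 v = 1 := by
      have h3 : proj 𝒜 0 (u • v) = u • proj 𝒜 (0 - 0) v := proj_smul_of_mem' 𝒜 𝒜 hu0 v 0
      rw [sub_zero, smul_eq_mul, smul_eq_mul, mul_comm u v, hv,
        proj_of_mem_same 𝒜 (SetLike.GradedOne.one_mem : (1 : R) ∈ 𝒜 0)] at h3
      exact h3.symm
    refine IsUnit.of_mul_eq_one (⟨proj 𝒜 0 v, proj_mem 𝒜 0 v⟩ : GrLC.deg0 𝒜) ?_
    apply Subtype.ext
    exact h2
  obtain ⟨n, hn⟩ := IsArtinianRing.isNilpotent_jacobson_bot (R := GrLC.deg0 𝒜)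
  have h1 : x' ^ n ∈ (Ideal.jacobson (⊥ : Ideal (GrLC.deg0 𝒜))) ^ n := Ideal.pow_mem_pow hjac n
  rw [hn] at h1
  have h2 : x' ^ n = 0 := h1
  refine ⟨n, ?_⟩
  have h3 := congrArg (Subtype.val) h2
  simpa using h3

include hpos hm in
/-- a power of the *maximal ideal lies in the irrelevant ideal -/
lemma exists_pow_le_irrel [IsArtinianRing (GrLC.deg0 𝒜)] :
    ∃ N : ℕ, m.toIdeal ^ N ≤ (GrSyz.irrel 𝒜).toIdeal := by
  apply Ideal.exists_pow_le_of_le_radical_of_fg _ (IsNoetherian.noetherian _)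
  intro x hx
  apply Pos.mem_of_forall_proj_mem 𝒜
  intro k
  have hk : proj 𝒜 k x ∈ m.toIdeal := m.isHomogeneous k hx
  rcases lt_trichotomy k 0 with hlt | rfl | hgt
  · have h2 : proj 𝒜 k x ∈ 𝒜 k := proj_mem 𝒜 _ x
    rw [hpos k hlt, AddSubgroup.mem_bot] at h2
    rw [h2]
    exact zero_mem _
  · obtain ⟨n, hn⟩ := isNilpotent_of_mem_zero 𝒜 hpos m hm _ hk (proj_mem 𝒜 0 x)
    refine ⟨n, ?_⟩
    rw [hn]
    exact zero_mem _
  · apply Ideal.le_radical
    rw [irrel_toIdeal]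
    apply Ideal.subset_span
    simp only [Set.mem_iUnion, Set.mem_Ioi, SetLike.mem_coe, exists_prop]
    exact ⟨k, hgt, proj_mem 𝒜 k x⟩

end StarLocal

section Main

/-- the `a`-invariant of a standard graded Cohen–Macaulay ring is at least minus the dimension -/
theorem main_17771 (R : Type u) [CommRing R] [LocCoh.IsCohenMacaulayRing R]
    (𝒜 : ℤ → AddSubgroup R) [GradedRing 𝒜] (hpos : ∀ n : ℤ, n < 0 → 𝒜 n = ⊥)
    (hstd : Ideal.span (⋃ n ∈ Set.Ioi (0 : ℤ), (𝒜 n : Set R)) =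
      Ideal.span ((𝒜 1 : AddSubgroup R) : Set R))
    [IsArtinianRing (GrLC.deg0 𝒜)] (m : HomogeneousIdeal 𝒜) (hm : GrLC.IsStarLocal 𝒜 m) (d : ℕ)
    (hd : ringKrullDim R = d) (I : GrLC.StarInjRes 𝒜 𝒜) :
    (((-(d : ℤ) : ℤ) : WithTop ℤ) : WithBot (WithTop ℤ)) ≤ GrLC.endDeg (I.Hgr m d) := by
  have hmax : m.toIdeal.IsMaximal := Pos.isMaximal_of_isCoatom 𝒜 hpos m hm.1
  have hht : ringKrullDim R = m.toIdeal.height :=
    GrHt.ringKrullDim_eq_height_of_isStarLocal 𝒜 m hm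
  have hht' : m.toIdeal.height = (d : ℕ∞) := by
    rw [hd] at hht
    exact_mod_cast hht.symm
  have hdepth : LocCoh.idealDepth m.toIdeal R = m.toIdeal.height :=
    (Depth.isCohenMacaulayRing_iff_idealDepth_eq_height.mp inferInstance) m.toIdeal hmax.ne_top
  have hJM : m.toIdeal • (⊤ : Submodule R R) ≠ ⊤ := by
    intro h
    have h1 : (1 : R) ∈ m.toIdeal • (⊤ : Submodule R R) := by rw [h]; trivial
    have h2 : m.toIdeal • (⊤ : Submodule R R) ≤ m.toIdeal := by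
      rw [Submodule.smul_le]
      intro r hr n _
      exact Ideal.mul_mem_right _ _ hr
    exact hmax.ne_top ((Ideal.eq_top_iff_one _).mpr (h2 h1))
  -- the irrelevant ideal
  set a : HomogeneousIdeal 𝒜 := GrSyz.irrel 𝒜 with ha
  have hhom : a.toIdeal = Ideal.span ((𝒜 1 : AddSubgroup R) : Set R) :=
    (irrel_toIdeal 𝒜).trans hstd
  have ham : a.toIdeal ≤ m.toIdeal := irrel_le_of_isStarLocal 𝒜 hpos m hm
  obtain ⟨N, hN⟩ := exists_pow_le_irrel 𝒜 hpos m hm
  have hgam : ∀ (X : Type u) [AddCommGroup X] [Module R X],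
      GrLC.gam a.toIdeal X = GrLC.gam m.toIdeal X :=
    fun X _ _ => gam_eq_of_le_of_pow_le a.toIdeal m.toIdeal ham N hN X
  -- it suffices to find a nonzero piece in degree `-d`
  suffices key : I.Hcomp m d (-(d : ℤ)) ≠ ⊥ by
    apply AInv.le_endDeg
    intro h
    apply key
    apply Submodule.toAddSubgroup_injective
    exact h
  intro hbot
  obtain ⟨ys, hys1, hys⟩ := exists_list_gens a hhom
  obtain ⟨K⟩ := nonempty_kpack a (GrLC.GMod.of 𝒜 R 𝒜) ys hys1
  have hyp : ∀ j : ℕ, Van a (GrLC.GMod.of 𝒜 R 𝒜) j (0 - j) := by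
    intro j
    rw [van_iff_of_gam_eq 𝒜 I a m hgam j]
    rcases lt_trichotomy j d with hlt | rfl | hgt
    · have hsub : Subsingleton (LocCoh.H m.toIdeal j R) := by
        apply subsingleton_of_lt_idealDepth m.toIdeal hJM j
        rw [hdepth, hht']
        exact_mod_cast hlt
      intro z _
      exact @Subsingleton.elim _ hsub _ _
    · rw [van_iff_hcomp m 𝒜 I, ← hcomp_eq_bot_iff]
      have h0 : (0 : ℤ) - (j : ℤ) = -(j : ℤ) := by ring
      rw [h0]
      exact hbot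
    · have hsub : Subsingleton (LocCoh.H m.toIdeal j R) :=
        cdLE_of_ringKrullDim_le m.toIdeal d hd.le R j hgt
      intro z _
      exact @Subsingleton.elim _ hsub _ _
  have h1 := K.mem_smul_top_of_hyp hys 0 hyp (1 : R)
    (SetLike.GradedOne.one_mem : (1 : R) ∈ 𝒜 0)
  have h2 : a.toIdeal • (⊤ : Submodule R R) ≤ a.toIdeal := by
    rw [Submodule.smul_le]
    intro r hr n _
    exact Ideal.mul_mem_right _ _ hr
  exact hmax.ne_top ((Ideal.eq_top_iff_one _).mpr (ham (h2 h1)))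

end Main

end Groth.Agent.Lib.Helper6.CMReg
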