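import Mathlib

set_option autoImplicit false
set_option linter.unusedSectionVars false
set_option linter.unusedVariables false
set_option linter.unusedSimpArgs false
set_option linter.style.haveILetI false
set_option maxHeartbeats 400000

/-!
# A generic linear form: multiplication by `∑ xᵢ Tⁱ` on polynomials, and a dimension count
-/

universe u

namespace Groth.Agent.Lib.Helper6.CMReg

open scoped Polynomial nonZeroDivisors

section Poly

variable {R : Type u} [CommRing R]

open Classical in
/-- the generic combination of `xs` -/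
noncomputable def genForm (N : ℕ) (xs : Fin N → R) : R[X] := Polynomial.ofFn N xs

open Classical in
lemma genForm_mem_nonZeroDivisors (N : ℕ) (xs : Fin N → R)
    (hann : ∀ c : R, (∀ i, c * xs i = 0) → c = 0) : genForm N xs ∈ R[X]⁰ := by
  rw [Polynomial.mem_nonZeroDivisors_iff]
  intro a ha
  apply hann
  intro i
  have h1 : Polynomial.ofFn N (a • xs) = 0 := by
    rw [map_smul]
    exact ha
  have h2 : a • xs = 0 := by
    apply Polynomial.injective_ofFn N
    rw [h1, map_zero]
  have h3 := congrFun h2 i
  simpa using h3

open Classical in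
/-- multiplication by the generic form on polynomials of degree `< D`, in coordinates -/
noncomputable def genMul (N : ℕ) (xs : Fin N → R) (D : ℕ) :
    (Fin D → R) →ₗ[R] (Fin (D + N) → R) :=
  (Polynomial.toFn (D + N)) ∘ₗ (LinearMap.mulLeft R (genForm N xs)) ∘ₗ (Polynomial.ofFn D)

open Classical in
lemma genMul_apply (N : ℕ) (xs : Fin N → R) (D : ℕ) (c : Fin D → R) (i : Fin (D + N)) :
    genMul N xs D c i = (genForm N xs * Polynomial.ofFn D c).coeff i := rfl

open Classical in
lemma coeff_genForm_mul_eq_zero (N : ℕ) (xs : Fin N → R) (D : ℕ) (c : Fin D → R) (i : ℕ)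
    (hi : D + N ≤ i) : (genForm N xs * Polynomial.ofFn D c).coeff i = 0 := by
  rw [Polynomial.coeff_mul]
  apply Finset.sum_eq_zero
  rintro ⟨a, b⟩ hab
  have hab' : a + b = i := Finset.HasAntidiagonal.mem_antidiagonal.mp hab
  show (genForm N xs).coeff a * ((Polynomial.ofFn D) c).coeff b = 0
  by_cases ha : N ≤ a
  · unfold genForm
    rw [Polynomial.ofFn_coeff_eq_zero_of_ge xs ha, zero_mul]
  · have hb : D ≤ b := by omega
    rw [Polynomial.ofFn_coeff_eq_zero_of_ge c hb, mul_zero]

open Classical in
lemma genMul_injective (N : ℕ) (xs : Fin N → R)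
    (hann : ∀ c : R, (∀ i, c * xs i = 0) → c = 0) (D : ℕ) :
    Function.Injective (genMul N xs D) := by
  rw [injective_iff_map_eq_zero]
  intro c hc
  have h1 : genForm N xs * Polynomial.ofFn D c = 0 := by
    ext i
    rw [Polynomial.coeff_zero]
    by_cases hi : i < D + N
    · have h2 := congrFun hc ⟨i, hi⟩
      rw [genMul_apply] at h2
      exact h2
    · exact coeff_genForm_mul_eq_zero N xs D c i (by omega)
  have h3 : Polynomial.ofFn D c = 0 := by
    have hnzd := genForm_mem_nonZeroDivisors N xs hann
    rw [mul_comm] at h1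
    exact (mem_nonZeroDivisors_iff_right.mp hnzd) _ h1
  apply Polynomial.injective_ofFn D
  rw [h3, map_zero]

open Classical in
/-- the coefficients of the product lie in a subgroup containing the products of coefficients -/
lemma genMul_mem (N : ℕ) (xs : Fin N → R) (D : ℕ) (c : Fin D → R) (A B C : AddSubgroup R)
    (hmul : ∀ x y, x ∈ A → y ∈ B → x * y ∈ C) (hxs : ∀ i, xs i ∈ A) (hc : ∀ j, c j ∈ B)
    (i : Fin (D + N)) : genMul N xs D c i ∈ C := by
  rw [genMul_apply, Polynomial.coeff_mul]
  apply AddSubgroup.sum_mem
  rintro ⟨a, b⟩ _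
  show (genForm N xs).coeff a * ((Polynomial.ofFn D) c).coeff b ∈ C
  apply hmul
  · unfold genForm
    by_cases ha : a < N
    · rw [Polynomial.ofFn_coeff_eq_val_of_lt xs ha]
      exact hxs _
    · rw [Polynomial.ofFn_coeff_eq_zero_of_ge xs (by omega)]
      exact zero_mem _
  · by_cases hb : b < D
    · rw [Polynomial.ofFn_coeff_eq_val_of_lt c hb]
      exact hc _
    · rw [Polynomial.ofFn_coeff_eq_zero_of_ge c (by omega)]
      exact zero_mem _

end Poly

section Count

/-- an inequality of dimensions from a family of injections -/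
theorem finrank_le_of_forall_injective (K : Type u) [Field K] (A B : Type u) [AddCommGroup A]
    [Module K A] [Module.Finite K A] [AddCommGroup B] [Module K B] [Module.Finite K B] (N : ℕ)
    (h : ∀ D : ℕ, ∃ f : (Fin D → A) →ₗ[K] (Fin (D + N) → B), Function.Injective f) :
    Module.finrank K A ≤ Module.finrank K B := by
  by_contra hlt
  push Not at hlt
  obtain ⟨f, hf⟩ := h (N * Module.finrank K B + 1)
  have h1 := LinearMap.finrank_le_finrank_of_injective hf
  rw [Module.finrank_pi_fintype, Module.finrank_pi_fintype, Finset.sum_const, Finset.sum_const,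
    Finset.card_fin, Finset.card_fin, smul_eq_mul, smul_eq_mul] at h1
  set a := Module.finrank K A
  set b := Module.finrank K B
  have h2 : (N * b + 1) * (b + 1) ≤ (N * b + 1) * a := Nat.mul_le_mul_left _ hlt
  nlinarith

end Count

end Groth.Agent.Lib.Helper6.CMReg
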