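import Mathlib
import Groth.Prelude.Def_GrLC
import Groth.Prelude.Def_GrSyz
import Groth.Prelude.Def_CAlg
import Groth.Prelude.Def_Wider
import Groth.Agent.Lib.Helper9.GrLC.Pos
import Groth.Agent.Lib.Helper9.GrHt.Main
import Groth.Agent.Lib.Helper8.Depth19
import Groth.Agent.Lib.Helper8.LC11
import Groth.Agent.Lib.Helper6.CMReg.CRg
import Groth.Agent.Lib.Helper6.CMReg.CRu
import Groth.Agent.Lib.Helper6.CMReg.CRv

set_option autoImplicit false
set_option linter.unusedSectionVars false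
set_option linter.unusedVariables false
set_option linter.unusedSimpArgs false
set_option linter.style.haveILetI false
set_option maxHeartbeats 400000

/-!
# The Hilbert function of a standard graded Cohen–Macaulay algebra of positive dimension over a
field is nondecreasing
-/

universe u

namespace Groth.Agent.Lib.Helper6.CMReg

open CategoryTheory DirectSum Groth.Agent.Helper9.GrLCLib Groth.Agent.Helper8.LC
  Groth.Agent.Helper9 Groth.Agent.Helper8

section Field0

variable {R : Type u} [CommRing R] [IsNoetherianRing R] (𝒜 : ℤ → AddSubgroup R) [GradedRing 𝒜]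
  (hpos : ∀ n : ℤ, n < 0 → 𝒜 n = ⊥) (h0 : IsField (GrLC.deg0 𝒜))

include h0 in
/-- nonzero elements of degree zero are units -/
lemma isUnit_of_mem_zero (x : R) (hx : x ∈ 𝒜 0) (hx0 : x ≠ 0) : IsUnit x := by
  have hne : (⟨x, hx⟩ : GrLC.deg0 𝒜) ≠ 0 := fun h => hx0 (congrArg Subtype.val h)
  obtain ⟨y', hy'⟩ := h0.mul_inv_cancel hne
  exact IsUnit.of_mul_eq_one (y' : R) (congrArg Subtype.val hy')

include hpos in
/-- elements of the irrelevant ideal have no component of degree zero -/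
lemma proj_zero_of_mem_irrel (y : R) (hy : y ∈ (GrSyz.irrel 𝒜).toIdeal) : proj 𝒜 0 y = 0 := by
  have key : ∀ r : R, proj 𝒜 0 (r * y) = 0 := by
    rw [irrel_toIdeal] at hy
    induction hy using Submodule.span_induction with
    | mem x h =>
      intro r
      simp only [Set.mem_iUnion, Set.mem_Ioi, SetLike.mem_coe, exists_prop] at h
      obtain ⟨n, hn, hxn⟩ := h
      exact proj_zero_mul_of_pos 𝒜 hpos n hn x hxn r
    | zero => intro r; rw [mul_zero, map_zero]
    | add x y _ _ hx hy => intro r; rw [mul_add, map_add, hx r, hy r, add_zero]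
    | smul a x _ hx =>
      intro r
      rw [smul_eq_mul, ← mul_assoc]
      exact hx (r * a)
  have := key 1
  rwa [one_mul] at this

include hpos in
lemma mem_irrel_of_proj_zero (x : R) (h : proj 𝒜 0 x = 0) : x ∈ (GrSyz.irrel 𝒜).toIdeal := by
  apply Pos.mem_of_forall_proj_mem 𝒜
  intro k
  rcases lt_trichotomy k 0 with hlt | rfl | hgt
  · have h2 : proj 𝒜 k x ∈ 𝒜 k := proj_mem 𝒜 _ x
    rw [hpos k hlt, AddSubgroup.mem_bot] at h2
    rw [h2]
    exact zero_mem _
  · rw [h]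
    exact zero_mem _
  · rw [irrel_toIdeal]
    apply Ideal.subset_span
    simp only [Set.mem_iUnion, Set.mem_Ioi, SetLike.mem_coe, exists_prop]
    exact ⟨k, hgt, proj_mem 𝒜 k x⟩

include hpos h0 in
lemma one_notMem_irrel' : (1 : R) ∉ (GrSyz.irrel 𝒜).toIdeal := by
  intro h
  have h1 := proj_zero_of_mem_irrel 𝒜 hpos 1 h
  rw [proj_of_mem_same 𝒜 (SetLike.GradedOne.one_mem : (1 : R) ∈ 𝒜 0)] at h1
  obtain ⟨x, y, hxy⟩ := h0.exists_pair_ne
  apply hxy
  apply Subtype.ext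
  have hx : (x : R) = (x : R) * 1 := (mul_one _).symm
  have hy : (y : R) = (y : R) * 1 := (mul_one _).symm
  rw [hx, hy, h1, mul_zero, mul_zero]

include hpos h0 in
/-- a homogeneous ideal with an element outside the irrelevant ideal is the unit ideal -/
lemma eq_top_of_notMem_irrel (b : HomogeneousIdeal 𝒜) (x : R) (hxb : x ∈ b.toIdeal)
    (hxa : x ∉ (GrSyz.irrel 𝒜).toIdeal) : b = ⊤ := by
  have h1 : proj 𝒜 0 x ≠ 0 := fun h => hxa (mem_irrel_of_proj_zero 𝒜 hpos x h)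
  have h2 : proj 𝒜 0 x ∈ b.toIdeal := b.isHomogeneous 0 hxb
  have h3 := isUnit_of_mem_zero 𝒜 h0 _ (proj_mem 𝒜 0 x) h1
  exact (HomogeneousIdeal.eq_top_iff b).mpr (Ideal.eq_top_of_isUnit_mem _ h2 h3)

include hpos h0 in
/-- over a field, the irrelevant ideal is the unique *maximal ideal -/
lemma isStarLocal_irrel : GrLC.IsStarLocal 𝒜 (GrSyz.irrel 𝒜) := by
  have hne : GrSyz.irrel 𝒜 ≠ ⊤ := by
    intro h
    apply one_notMem_irrel' 𝒜 hpos h0
    rw [h]
    trivial
  refine ⟨⟨hne, ?_⟩, ?_⟩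
  · intro b hb
    obtain ⟨x, hxb, hxa⟩ := SetLike.exists_of_lt hb
    exact eq_top_of_notMem_irrel 𝒜 hpos h0 b x hxb hxa
  · intro n hn
    have hle : n ≤ GrSyz.irrel 𝒜 := by
      intro x hx
      by_contra hxa
      exact hn.1 (eq_top_of_notMem_irrel 𝒜 hpos h0 n x hx hxa)
    by_contra hne'
    exact hne (hn.2 _ (lt_of_le_of_ne hle hne'))

end Field0


section Depth

variable (R : Type u) [CommRing R] [LocCoh.IsCohenMacaulayRing R] (𝒜 : ℤ → AddSubgroup R)
  [GradedRing 𝒜] (hpos : ∀ n : ℤ, n < 0 → 𝒜 n = ⊥) (h0 : IsField (GrLC.deg0 𝒜))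

include hpos h0 in
/-- the irrelevant ideal of a Cohen–Macaulay graded algebra of positive dimension over a field has
no annihilator -/
lemma eq_zero_of_irrel_mul_eq_zero (h1 : 1 ≤ ringKrullDim R) (c : R)
    (hc : ∀ r ∈ (GrSyz.irrel 𝒜).toIdeal, r * c = 0) : c = 0 := by
  have hm := isStarLocal_irrel 𝒜 hpos h0
  have hmax : (GrSyz.irrel 𝒜).toIdeal.IsMaximal := Pos.isMaximal_of_isCoatom 𝒜 hpos _ hm.1
  have hht : ringKrullDim R = (GrSyz.irrel 𝒜).toIdeal.height :=
    GrHt.ringKrullDim_eq_height_of_isStarLocal 𝒜 _ hm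
  have hht' : (1 : ℕ∞) ≤ (GrSyz.irrel 𝒜).toIdeal.height := by
    rw [hht] at h1
    exact_mod_cast h1
  have hdepth : LocCoh.idealDepth (GrSyz.irrel 𝒜).toIdeal R = (GrSyz.irrel 𝒜).toIdeal.height :=
    (Depth.isCohenMacaulayRing_iff_idealDepth_eq_height.mp inferInstance) _ hmax.ne_top
  have hJM : (GrSyz.irrel 𝒜).toIdeal • (⊤ : Submodule R R) ≠ ⊤ := by
    intro h
    have h1 : (1 : R) ∈ (GrSyz.irrel 𝒜).toIdeal • (⊤ : Submodule R R) := by rw [h]; trivial
    have h2 : (GrSyz.irrel 𝒜).toIdeal • (⊤ : Submodule R R) ≤ (GrSyz.irrel 𝒜).toIdeal := by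
      rw [Submodule.smul_le]
      intro r hr n _
      exact Ideal.mul_mem_right _ _ hr
    exact hmax.ne_top ((Ideal.eq_top_iff_one _).mpr (h2 h1))
  have hsub : Subsingleton (LocCoh.H (GrSyz.irrel 𝒜).toIdeal 0 R) := by
    apply subsingleton_of_lt_idealDepth _ hJM 0
    rw [hdepth]
    exact lt_of_lt_of_le (by norm_num) hht'
  have hct : c ∈ DRing.torsionSub (GrSyz.irrel 𝒜).toIdeal (ModuleCat.of R R) := by
    refine ⟨1, fun a ha => ?_⟩
    rw [pow_one] at ha
    exact hc a ha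
  obtain ⟨z, hz⟩ := exists_ev0_eq (GrSyz.irrel 𝒜).toIdeal (ModuleCat.of R R) c hct
  have hz0 : z = 0 := @Subsingleton.elim _ hsub _ _
  rw [hz0, map_zero] at hz
  exact hz.symm

end Depth

section Finite

variable {R : Type u} [CommRing R] [IsNoetherianRing R] (𝒜 : ℤ → AddSubgroup R) [GradedRing 𝒜]
  (hpos : ∀ n : ℤ, n < 0 → 𝒜 n = ⊥)

lemma mem_comp_iff (n : ℤ) (x : R) : x ∈ GrLC.comp 𝒜 𝒜 n ↔ x ∈ 𝒜 n := Iff.rfl

/-- multiplication by an element, linear over the degree zero subring -/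
def mulK (x : R) : R →ₗ[GrLC.deg0 𝒜] R := (LinearMap.mulLeft R x).restrictScalars (GrLC.deg0 𝒜)

lemma mulK_apply (x y : R) : mulK 𝒜 x y = x * y := rfl

variable (N : ℕ) (xs : Fin N → R) (hxs : ∀ i, xs i ∈ 𝒜 1)
  (hspan : (GrSyz.irrel 𝒜).toIdeal = Ideal.span (Set.range xs))

include hxs hspan in
/-- the piece of degree `n + 1` is spanned by the products of the generators with the piece of
degree `n` -/
lemma comp_succ_eq (n : ℤ) (hn : 0 ≤ n) :
    GrLC.comp 𝒜 𝒜 (n + 1) = ⨆ i : Fin N, (GrLC.comp 𝒜 𝒜 n).map (mulK 𝒜 (xs i)) := by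
  apply le_antisymm
  · intro z hz
    have hz' : z ∈ 𝒜 (n + 1) := hz
    have h1 : z ∈ (GrSyz.irrel 𝒜).toIdeal := by
      rw [irrel_toIdeal]
      apply Ideal.subset_span
      simp only [Set.mem_iUnion, Set.mem_Ioi, SetLike.mem_coe, exists_prop]
      exact ⟨n + 1, by omega, hz'⟩
    rw [hspan] at h1
    obtain ⟨f, hf⟩ := Ideal.mem_span_range_iff_exists_fun.mp h1
    have h2 : z = ∑ i, xs i * proj 𝒜 n (f i) := by
      have h3 : proj 𝒜 (n + 1) z = z := proj_of_mem_same 𝒜 hz'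
      rw [← h3, ← hf, map_sum]
      apply Finset.sum_congr rfl
      intro i _
      have h4 : f i * xs i = xs i • f i := by rw [smul_eq_mul, mul_comm]
      have h5 : n + 1 - 1 = n := by omega
      rw [h4, proj_smul_of_mem' 𝒜 𝒜 (hxs i) (f i) (n + 1), smul_eq_mul, h5]
    rw [h2]
    apply Submodule.sum_mem
    intro i _
    apply Submodule.mem_iSup_of_mem i
    exact Submodule.mem_map_of_mem (f := mulK 𝒜 (xs i)) (show proj 𝒜 n (f i) ∈ GrLC.comp 𝒜 𝒜 n from
      proj_mem 𝒜 n (f i))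
  · apply iSup_le
    intro i
    rintro _ ⟨y, hy, rfl⟩
    have hy' : y ∈ 𝒜 n := hy
    show xs i * y ∈ 𝒜 (n + 1)
    have := SetLike.GradedMul.mul_mem (hxs i) hy'
    rwa [add_comm] at this

include hpos hxs hspan in
/-- the pieces of a Noetherian positively graded ring are finitely generated over the degree zero
subring -/
lemma comp_fg (n : ℤ) : (GrLC.comp 𝒜 𝒜 n).FG := by
  rcases lt_or_ge n 0 with hn | hn
  · have h1 : GrLC.comp 𝒜 𝒜 n = ⊥ := by
      rw [Submodule.eq_bot_iff]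
      intro x hx
      have hx' : x ∈ 𝒜 n := hx
      rw [hpos n hn, AddSubgroup.mem_bot] at hx'
      exact hx'
    rw [h1]
    exact Submodule.fg_bot
  · obtain ⟨n', rfl⟩ := Int.eq_ofNat_of_zero_le hn
    induction n' with
    | zero =>
      have h1 : GrLC.comp 𝒜 𝒜 ((0 : ℕ) : ℤ) = Submodule.span (GrLC.deg0 𝒜) {(1 : R)} := by
        apply le_antisymm
        · intro x hx
          have hx' : x ∈ 𝒜 0 := hx
          rw [Submodule.mem_span_singleton]
          refine ⟨⟨x, hx'⟩, ?_⟩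
          show x * 1 = x
          exact mul_one x
        · rw [Submodule.span_le]
          rintro _ rfl
          exact (SetLike.GradedOne.one_mem : (1 : R) ∈ 𝒜 0)
      rw [h1]
      exact Submodule.fg_span_singleton _
    | succ n' ih =>
      have h1 : ((n' + 1 : ℕ) : ℤ) = (n' : ℤ) + 1 := by omega
      rw [h1, comp_succ_eq 𝒜 N xs hxs hspan n' (by omega)]
      exact Submodule.fg_iSup _ (fun i => (ih (by omega)).map _)

end Finite

section Main

/-- the coordinatewise multiplication by the generic form on graded pieces -/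
noncomputable def genMulK {R : Type u} [CommRing R] (𝒜 : ℤ → AddSubgroup R) [GradedRing 𝒜]
    (N : ℕ) (xs : Fin N → R) (hxs : ∀ i, xs i ∈ 𝒜 1) (n : ℤ) (D : ℕ) :
    (Fin D → ↥(GrLC.comp 𝒜 𝒜 n)) →ₗ[GrLC.deg0 𝒜] (Fin (D + N) → ↥(GrLC.comp 𝒜 𝒜 (n + 1))) where
  toFun c i := ⟨genMul N xs D (fun j => (c j : R)) i,
    genMul_mem N xs D _ (𝒜 1) (𝒜 n) (𝒜 (n + 1))
      (fun x y hx hy => by
        have := SetLike.GradedMul.mul_mem hx hy
        rwa [add_comm] at this) hxs (fun j => (c j).2) i⟩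
  map_add' c c' := by
    ext i
    have h1 : (fun j => (((c + c') j : ↥(GrLC.comp 𝒜 𝒜 n)) : R)) =
        (fun j => (c j : R)) + (fun j => (c' j : R)) := rfl
    show genMul N xs D (fun j => (((c + c') j : ↥(GrLC.comp 𝒜 𝒜 n)) : R)) i = _
    rw [h1, map_add]
    rfl
  map_smul' r c := by
    ext i
    have h1 : (fun j => (((r • c) j : ↥(GrLC.comp 𝒜 𝒜 n)) : R)) =
        (r : R) • (fun j => (c j : R)) := rfl
    show genMul N xs D (fun j => (((r • c) j : ↥(GrLC.comp 𝒜 𝒜 n)) : R)) i = _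
    rw [h1, map_smul]
    rfl

lemma genMulK_injective {R : Type u} [CommRing R] (𝒜 : ℤ → AddSubgroup R) [GradedRing 𝒜]
    (N : ℕ) (xs : Fin N → R) (hxs : ∀ i, xs i ∈ 𝒜 1)
    (hann : ∀ c : R, (∀ i, c * xs i = 0) → c = 0) (n : ℤ) (D : ℕ) :
    Function.Injective (genMulK 𝒜 N xs hxs n D) := by
  intro c c' h
  have h1 : genMul N xs D (fun j => (c j : R)) = genMul N xs D (fun j => (c' j : R)) := by
    funext i
    exact congrArg Subtype.val (congrFun h i)
  have h2 := genMul_injective N xs hann D h1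
  funext j
  exact Subtype.ext (congrFun h2 j)

/-- the Hilbert function of a standard graded Cohen–Macaulay algebra of positive dimension over a
field is nondecreasing -/
theorem main_18654 (R : Type u) [CommRing R] [LocCoh.IsCohenMacaulayRing R]
    (𝒜 : ℤ → AddSubgroup R) [GradedRing 𝒜] (hpos : ∀ n : ℤ, n < 0 → 𝒜 n = ⊥)
    (h0 : IsField (GrLC.deg0 𝒜))
    (hstd : Ideal.span (⋃ n ∈ Set.Ioi (0 : ℤ), (𝒜 n : Set R)) =
      Ideal.span ((𝒜 1 : AddSubgroup R) : Set R))
    (h1 : 1 ≤ ringKrullDim R) (n : ℤ) :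
    Module.finrank (GrLC.deg0 𝒜) (GrLC.comp 𝒜 𝒜 n) ≤
      Module.finrank (GrLC.deg0 𝒜) (GrLC.comp 𝒜 𝒜 (n + 1)) := by
  classical
  have hhom : (GrSyz.irrel 𝒜).toIdeal = Ideal.span ((𝒜 1 : AddSubgroup R) : Set R) :=
    (irrel_toIdeal 𝒜).trans hstd
  obtain ⟨ys, hys1, hys⟩ := exists_list_gens (GrSyz.irrel 𝒜) hhom
  have hxs : ∀ i : Fin ys.length, ys.get i ∈ 𝒜 1 := fun i => hys1 _ (List.get_mem ys i)
  have hspan : (GrSyz.irrel 𝒜).toIdeal = Ideal.span (Set.range ys.get) := by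
    rw [hys, Set.range_list_get]
  have hann : ∀ c : R, (∀ i, c * ys.get i = 0) → c = 0 := by
    intro c hc
    apply eq_zero_of_irrel_mul_eq_zero R 𝒜 hpos h0 h1 c
    intro r hr
    rw [hspan] at hr
    obtain ⟨f, rfl⟩ := Ideal.mem_span_range_iff_exists_fun.mp hr
    rw [Finset.sum_mul]
    apply Finset.sum_eq_zero
    intro i _
    rw [mul_assoc, mul_comm (ys.get i) c, hc i, mul_zero]
  haveI hf1 : Module.Finite (GrLC.deg0 𝒜) (GrLC.comp 𝒜 𝒜 n) :=
    Module.Finite.iff_fg.mpr (comp_fg 𝒜 hpos ys.length ys.get hxs hspan n)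
  haveI hf2 : Module.Finite (GrLC.deg0 𝒜) (GrLC.comp 𝒜 𝒜 (n + 1)) :=
    Module.Finite.iff_fg.mpr (comp_fg 𝒜 hpos ys.length ys.get hxs hspan (n + 1))
  letI : Field (GrLC.deg0 𝒜) := h0.toField
  apply finrank_le_of_forall_injective (GrLC.deg0 𝒜) _ _ ys.length
  intro D
  exact ⟨genMulK 𝒜 ys.length ys.get hxs n D, genMulK_injective 𝒜 ys.length ys.get hxs hann n D⟩

end Main

end Groth.Agent.Lib.Helper6.CMReg
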